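import Cfsg.Agent.Lib.Invol.AschCrit.Wrapper
import Cfsg.Agent.Lib.Invol.AschCrit.Sub

/-!
Owner: helper8. From Aschbacher's criterion: the group generated by the members has a strongly
embedded point stabiliser, when none of its involutions fixes all points.
-/

set_option autoImplicit false

namespace CfsgLib.AschCrit

universe u

variable {G : Type u} [Group G] [Finite G] {Ω : Type u} [MulAction G Ω] {D : Set G}

/-- No involution of the group generated by the members fixes two points. -/
theorem Crit.noMulti_closure (h : Crit Ω D) (hmain : Main.{u})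
    (hker : ∀ t ∈ Subgroup.closure D, orderOf t = 2 → ∃ x : Ω, t • x ≠ x) :
    ∀ t ∈ Subgroup.closure D, orderOf t = 2 → ∀ a b : Ω, a ≠ b → t • a = a → t • b ≠ b := by
  classical
  intro t htK ht a b hab hta htb
  haveI := h.finite_points
  set ρ := (MulAction.toPermHom G Ω).rangeRestrict with hρ
  have hρs : ∀ (g : G) (x : Ω), (ρ g) • x = g • x := fun g x => rfl
  have hi := h.image
  have hf := h.faithful_image
  set K := Subgroup.closure (ρ '' D) with hK
  obtain ⟨d₀, hd₀, hd₀a⟩ := hi.exists_mem a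
  obtain ⟨e₀, he₀, he₀b⟩ := hi.exists_mem b
  have hd₀K : d₀ ∈ K := Subgroup.subset_closure hd₀
  have he₀K : e₀ ∈ K := Subgroup.subset_closure he₀
  have hall : ∀ x : Ω, x ∈ subPoints hi K := fun x => by
    obtain ⟨d, hd, hdx⟩ := hi.exists_mem x
    exact ⟨d, hd, Subgroup.subset_closure hd, hdx⟩
  have hfK : Faithful K (subPoints hi K) := fun g hg =>
    Subtype.ext (hf g fun x => congrArg Subtype.val (hg ⟨x, hall x⟩))
  have hgen : Subgroup.closure (memsIn (ρ '' D) K) = ⊤ :=
    Subgroup.closure_closure_coe_preimage (k := ρ '' D)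
  have hno := hmain K (subPoints hi K) (memsIn (ρ '' D) K)
    (hi.crit_sub hf K hd₀ he₀ hd₀K he₀K hd₀a he₀b hab) hfK hgen
  have htK' : ρ t ∈ K := by
    rw [hK, ← MonoidHom.map_closure]
    exact Subgroup.mem_map_of_mem ρ htK
  have hord : orderOf (⟨ρ t, htK'⟩ : K) = 2 := by
    rw [Subgroup.orderOf_mk]
    refine orderOf_eq_prime (by rw [← map_pow, ← ht, pow_orderOf_eq_one, map_one]) fun e => ?_
    obtain ⟨x, hx⟩ := hker t htK ht
    exact hx (by rw [← hρs, e, one_smul])
  exact hno ⟨ρ t, htK'⟩ ⟨hord, ⟨a, hall a⟩, ⟨b, hall b⟩, fun e => hab (congrArg Subtype.val e),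
    Subtype.ext hta, Subtype.ext htb⟩

/-- The stabiliser of a point is strongly embedded in the group generated by the members. -/
theorem Crit.stronglyEmbedded_closure (h : Crit Ω D) (hmain : Main.{u})
    (hker : ∀ t ∈ Subgroup.closure D, orderOf t = 2 → ∃ x : Ω, t • x ≠ x) (a : Ω) :
    Cfsg.IsStronglyEmbedded ((MulAction.stabilizer G a).subgroupOf (Subgroup.closure D)) := by
  classical
  haveI := Fact.mk Nat.prime_two
  obtain ⟨d, hd, hda⟩ := h.exists_mem a
  have hdK : d ∈ Subgroup.closure D := Subgroup.subset_closure hd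
  refine ⟨fun e => ?_, ?_, fun g hg => ?_⟩
  · obtain ⟨b, hb⟩ := h.exists_ne a
    obtain ⟨f, hf, hfb⟩ := h.exists_mem b
    have hfa : f • a = a :=
      Subgroup.subgroupOf_eq_top.mp e (Subgroup.subset_closure hf : f ∈ Subgroup.closure D)
    exact hb (h.fix_unique f hf b a hfb hfa)
  · refine even_iff_two_dvd.2 ?_
    have hm : (⟨d, hdK⟩ : Subgroup.closure D) ∈
        (MulAction.stabilizer G a).subgroupOf (Subgroup.closure D) := hda
    exact ((Subgroup.orderOf_mk d hdK).trans (h.inv d hd)).symm.dvd.trans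
      (Subgroup.orderOf_dvd_natCard _ hm)
  · rw [← Nat.not_even_iff_odd]
    intro hev
    obtain ⟨⟨w, hw⟩, hw2⟩ := exists_prime_orderOf_dvd_card' 2 (even_iff_two_dvd.1 hev)
    rw [Subgroup.orderOf_mk] at hw2
    obtain ⟨hwa, v, hv, hvw⟩ := hw
    have hvw' : g * v * g⁻¹ = w := hvw
    have hv' : (v : G) • a = a := hv
    refine h.noMulti_closure hmain hker w w.2 ((Subgroup.orderOf_coe w).trans hw2) a ((g : G) • a)
      (fun e => hg (MulAction.mem_stabilizer_iff.2 e.symm)) hwa ?_
    rw [← hvw', Subgroup.coe_mul, Subgroup.coe_mul, Subgroup.coe_inv, mul_smul, mul_smul, inv_smul_smul, hv']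

end CfsgLib.AschCrit
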