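import Cfsg.Agent.Lib.Invol.AschCrit.Dep.Closure
import Cfsg.Agent.Lib.Core.Cores
import Cfsg.Agent.S0215

/-!
Owner: helper8. From Aschbacher's criterion: strongly embedded subgroups in the groups generated by
the conjugates of `z` centralising an involution give one in the normal closure of `z` (S1913).
-/

set_option autoImplicit false
set_option linter.unusedSectionVars false
set_option linter.style.haveILetI false

namespace CfsgLib.AschCrit

universe u v

section Kernel

variable {G : Type u} [Group G] [Finite G] {Ω : Type v} [MulAction G Ω] {D : Set G}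

/-- The product of two members acting alike has odd order. -/
theorem Crit.odd_mul_of_fixes (h : Crit Ω D) {d e : G} (hd : d ∈ D) (he : e ∈ D)
    (hker : ∀ x : Ω, (d * e) • x = x) : Odd (orderOf (d * e)) := by
  rw [← Nat.not_even_iff_odd]
  intro hev
  obtain ⟨m, hm⟩ := hev
  have hd2 := h.sq hd
  have he2 := h.sq he
  have hmpos : 0 < m := by have := orderOf_pos (d * e); omega
  have hker' : ∀ (j : ℕ) (x : Ω), ((d * e) ^ j) • x = x := by
    intro j
    induction j with
    | zero => intro x; rw [pow_zero, one_smul]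
    | succ j ih => intro x; rw [pow_succ, mul_smul, hker, ih]
  set w := (d * e) ^ m with hw
  have hw2 : w * w = 1 := by rw [hw, ← pow_add, ← hm, pow_orderOf_eq_one]
  have hw1 : w ≠ 1 := fun e1 => by
    have := Nat.le_of_dvd hmpos (orderOf_dvd_of_pow_eq_one e1)
    omega
  have hdw : Commute d w := by
    have h1 := dih_pow hd2 he2 m
    rw [← hw, inv_eq_of_mul_eq_one_right hw2] at h1
    calc d * w = d * w * (d * d) := by rw [hd2, mul_one]
      _ = d * w * d * d := by group
      _ = w * d := by rw [h1]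
  have he' : d * w ∈ D := by
    rcases Nat.even_or_odd m with ⟨l, hl⟩ | ⟨l, hl⟩
    · rw [hw, show m = 2 * l by omega, dih_even hd2 he2 l]
      exact h.conjBack hd _
    · rw [hw, hl, dih_odd hd2 he2 l]
      exact h.conjBack he _
  obtain ⟨a, ha⟩ := h.fix_exists d hd
  obtain ⟨b, hb⟩ := h.exists_ne a
  refine hb (h.pair_single hd he' (fun e1 => hw1 (by simpa using e1.symm))
    ((Commute.refl d).mul_right hdw) ha ?_)
  rw [← mul_assoc, hd2, one_mul, hw]
  exact hker' m b

/-- A member centralises a normal subgroup fixing all points modulo the odd core. -/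
theorem Crit.commutator_mem_oddCore (h : Crit Ω D) (C₀ : Subgroup G) [C₀.Normal]
    (hC₀ : ∀ c ∈ C₀, ∀ x : Ω, c • x = x) {d : G} (hd : d ∈ D) {c : G} (hc : c ∈ C₀) :
    d * c * d⁻¹ * c⁻¹ ∈ Cfsg.pPrimeCore 2 G := by
  haveI := Fact.mk Nat.prime_two
  set X := C₀ ⊔ Subgroup.zpowers d with hX
  have hdX : d ∈ X := (le_sup_right : Subgroup.zpowers d ≤ X) (Subgroup.mem_zpowers d)
  have hcX : c ∈ X := (le_sup_left : C₀ ≤ X) hc
  obtain ⟨P, hP⟩ := IsPGroup.exists_le_sylow (p := 2) (P := Subgroup.zpowers (⟨d, hdX⟩ : X))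
    (IsPGroup.of_card (n := 1) (by rw [Nat.card_zpowers, Subgroup.orderOf_mk, h.inv d hd, pow_one]))
  have hdP : (⟨d, hdX⟩ : X) ∈ (P : Subgroup X) := hP (Subgroup.mem_zpowers _)
  obtain ⟨M, hM, hModd, hMc⟩ := Cfsg.Agent.S0215.result P ⟨d, hdX⟩
    ((Subgroup.orderOf_mk d hdX).trans (h.inv d hd)) hdP (fun g hg => by
      -- the conjugates of `d` in `X` differ from it by an element of `C₀`
      have hmem : ((g * ⟨d, hdX⟩ * g⁻¹ : X) : G) * d ∈ C₀ := by
        show (g : G) * d * (g : G)⁻¹ * d ∈ C₀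
        obtain ⟨c', hc', k, hk, hgk⟩ := Subgroup.mem_sup_of_normal_left.mp g.2
        obtain ⟨i, rfl⟩ := hk
        rw [← hgk, show c' * d ^ i * d * (c' * d ^ i)⁻¹ * d = c' * ((d ^ i * d * (d ^ i)⁻¹) * c'⁻¹ * d) by group,
          show d ^ i * d * (d ^ i)⁻¹ = d by group]
        refine mul_mem hc' ?_
        have := Subgroup.Normal.conj_mem ‹C₀.Normal› c'⁻¹ (inv_mem hc') d
        rwa [show d * c'⁻¹ * d⁻¹ = d * c'⁻¹ * d by rw [inv_eq_of_mul_eq_one_right (h.sq hd)]] at this
      have hodd := h.odd_mul_of_fixes (h.conj d hd (g : G)) hd (hC₀ _ hmem)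
      obtain ⟨j, hj⟩ := IsPGroup.iff_orderOf.mp P.2
        ⟨g * ⟨d, hdX⟩ * g⁻¹ * ⟨d, hdX⟩, mul_mem hg hdP⟩
      rw [Subgroup.orderOf_mk] at hj
      have hj' : orderOf ((g : G) * d * (g : G)⁻¹ * d) = 2 ^ j := by
        rw [← hj, ← Subgroup.orderOf_coe]; rfl
      rcases Nat.eq_zero_or_pos j with rfl | hj0
      · rw [pow_zero, orderOf_eq_one_iff] at hj'
        refine Subtype.ext ?_
        show (g : G) * d * (g : G)⁻¹ = d
        rw [eq_inv_of_mul_eq_one_left hj', inv_eq_of_mul_eq_one_right (h.sq hd)]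
      · rw [hj'] at hodd
        exact absurd hodd (Nat.not_odd_iff_even.mpr (Nat.even_pow.mpr ⟨even_two, hj0.ne'⟩)))
  have hmem := hMc ⟨c, hcX⟩
  have hC₀' : d * c * d⁻¹ * c⁻¹ ∈ C₀ :=
    mul_mem (Subgroup.Normal.conj_mem ‹C₀.Normal› c hc d) (inv_mem hc)
  set N₀ : Subgroup C₀ := (M.map X.subtype).subgroupOf C₀ with hN₀
  haveI : N₀.Normal := by
    refine ⟨fun x hx y => ?_⟩
    rw [hN₀, Subgroup.mem_subgroupOf] at hx ⊢
    obtain ⟨m, hm, hmx⟩ := hx
    refine ⟨⟨y, (le_sup_left : C₀ ≤ X) y.2⟩ * m * ⟨y, (le_sup_left : C₀ ≤ X) y.2⟩⁻¹,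
      hM.conj_mem m hm _, ?_⟩
    have hmx' : (m : G) = (x : G) := hmx
    show (y : G) * (m : G) * (y : G)⁻¹ = (y : G) * (x : G) * (y : G)⁻¹
    rw [hmx']
  have hle : N₀ ≤ Cfsg.pPrimeCore 2 C₀ := by
    refine CfsgLib.Core.le_pPrimeCore (Nat.coprime_two_right.mpr ?_)
    refine hModd.of_dvd_nat ((Subgroup.card_comap_dvd_of_injective _ C₀.subtype C₀.subtype_injective).trans ?_)
    exact (Subgroup.card_map_of_injective X.subtype_injective).dvd
  exact CfsgLib.Core.map_subtype_pPrimeCore_le C₀ ⟨⟨_, hC₀'⟩, hle ⟨_, hmem, rfl⟩, rfl⟩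

end Kernel

section Conjugates

variable {G : Type u} [Group G] [Finite G]

/-- S1913 from the criterion. -/
theorem stronglyEmbedded_normalClosure (hmain : Main.{u}) (P : Sylow 2 G) (z : G) (hz : orderOf z = 2)
    (hzP : z ∈ (Subgroup.center ↥(P : Subgroup G)).map (P : Subgroup G).subtype)
    (H : Subgroup G) (hH : H ≠ ⊤) (hi : ∀ g : G, z ∈ H.map (MulAut.conj g).toMonoidHom ↔ g ∈ H)
    (hii : ∀ u : G, orderOf u = 2 → u * z = z * u → ¬ Subgroup.centralizer ({u} : Set G) ≤ H →
      Cfsg.IsStronglyEmbedded (H.subgroupOf (Subgroup.closure {x : G | IsConj z x ∧ x * u = u * x}))) :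
    Cfsg.IsStronglyEmbedded (H.subgroupOf (Subgroup.normalClosure ({z} : Set G))) := by
  classical
  haveI := Fact.mk Nat.prime_two
  set D : Set G := {x | IsConj z x} with hD
  have hcl : Subgroup.normalClosure ({z} : Set G) = Subgroup.closure D :=
    congrArg Subgroup.closure (show Group.conjugatesOfSet ({z} : Set G) = D by
      ext x; simp [Group.conjugatesOfSet, hD, conjugatesOf])
  have hzH : z ∈ H := by
    obtain ⟨y, hy, hyz⟩ := (hi 1).mpr (one_mem H)
    have hyz' : (1 : G) * y * (1 : G)⁻¹ = z := hyz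
    rw [one_mul, inv_one, mul_one] at hyz'
    exact hyz' ▸ hy
  have hmv : ∀ y : G, y * z * y⁻¹ ∈ H ↔ y ∈ H := fun y => by
    rw [← inv_mem_iff (x := y), ← hi y⁻¹]
    constructor
    · intro hy
      exact ⟨y * z * y⁻¹, hy, by show y⁻¹ * (y * z * y⁻¹) * y⁻¹⁻¹ = z; group⟩
    · rintro ⟨x, hx, hxz⟩
      have hxz' : y⁻¹ * x * y⁻¹⁻¹ = z := hxz
      rwa [← hxz', show y * (y⁻¹ * x * y⁻¹⁻¹) * y⁻¹ = x by group]
  have hfix : ∀ g x : G, (g * z * g⁻¹) • (x : G ⧸ H) = (x : G ⧸ H) ↔ (g : G ⧸ H) = (x : G ⧸ H) := by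
    intro g x
    rw [MulAction.Quotient.smul_coe, smul_eq_mul, QuotientGroup.eq, QuotientGroup.eq]
    constructor
    · intro h
      have h' : (x⁻¹ * g) * z * (x⁻¹ * g)⁻¹ ∈ H := by
        have := inv_mem h
        simpa [mul_assoc] using this
      have h4 := inv_mem ((hmv _).mp h')
      simpa using h4
    · intro h
      have h' := inv_mem ((hmv _).mpr (inv_mem h))
      simpa [mul_assoc] using h'
  have hfu : ∀ d ∈ D, ∀ x y : G ⧸ H, d • x = x → d • y = y → x = y := by
    intro d hd x y hx hy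
    obtain ⟨g, rfl⟩ := isConj_iff.mp hd
    obtain ⟨a, rfl⟩ := QuotientGroup.mk_surjective x
    obtain ⟨b, rfl⟩ := QuotientGroup.mk_surjective y
    exact ((hfix g a).mp hx).symm.trans ((hfix g b).mp hy)
  have hz2 : z * z = 1 := by rw [← pow_two, ← hz, pow_orderOf_eq_one]
  have hconj : ∀ d ∈ D, ∀ g : G, g * d * g⁻¹ ∈ D := fun d hd g =>
    IsConj.trans hd (isConj_iff.mpr ⟨g, rfl⟩)
  -- the product of two commuting conjugates is centralised only inside the stabiliser
  have hcent : ∀ z' ∈ D, z' ≠ z → Commute z z' → ∀ c : G, Commute c (z * z') → c ∈ H := by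
    intro z' hz' hne hc c hcu
    by_contra hcH
    obtain ⟨g, rfl⟩ := isConj_iff.mp hz'
    set u := z * (g * z * g⁻¹) with hu
    have hu2 : orderOf u = 2 := by
      refine orderOf_eq_prime (by rw [hu, hc.mul_pow, conj_pow, pow_two z, hz2]; simp) fun e => hne ?_
      exact (mul_left_cancel (hz2.trans e.symm)).symm
    have hzu : Commute z u := (Commute.refl z).mul_right hc
    have hgu : Commute (g * z * g⁻¹) u := hc.symm.mul_right (Commute.refl _)
    set L := Subgroup.closure {x : G | IsConj z x ∧ x * u = u * x} with hL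
    have hse := hii u hu2 hzu.symm.eq
      (fun hle => hcH (hle (Subgroup.mem_centralizer_singleton_iff.mpr hcu)))
    have huL : u ∈ L := L.mul_mem (Subgroup.subset_closure ⟨IsConj.refl z, hzu.eq⟩)
      (Subgroup.subset_closure ⟨hz', hgu.eq⟩)
    have huH : u ∈ H := by
      refine H.mul_mem hzH ((hmv g).mpr ?_)
      have h1 : z • ((1 : G) : G ⧸ H) = ((1 : G) : G ⧸ H) := by
        simpa using (hfix 1 1).mpr rfl
      have h2 : (g * z * g⁻¹) • ((1 : G) : G ⧸ H) = ((1 : G) : G ⧸ H) := by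
        refine hfu z (IsConj.refl z) _ _ ?_ h1
        rw [← mul_smul, hc.eq, mul_smul, h1]
      have h3 := (hfix g 1).mp h2
      rw [QuotientGroup.eq, mul_one] at h3
      exact inv_mem_iff.mp h3
    have hcentral : ∀ x ∈ L, Commute x u := fun x hx => by
      have hle : L ≤ Subgroup.centralizer ({u} : Set G) :=
        (Subgroup.closure_le _).mpr fun y hy => Subgroup.mem_centralizer_singleton_iff.mpr hy.2
      exact Subgroup.mem_centralizer_singleton_iff.mp (hle hx)
    obtain ⟨y, -, hy⟩ := SetLike.exists_of_lt (lt_top_iff_ne_top.mpr hse.1)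
    have hmem : (⟨u, huL⟩ : L) ∈ H.subgroupOf L ⊓ (H.subgroupOf L).map (MulAut.conj y).toMonoidHom := by
      refine ⟨huH, ⟨u, huL⟩, huH, Subtype.ext ?_⟩
      show (y : G) * u * (y : G)⁻¹ = u
      rw [(hcentral _ y.2).eq, mul_inv_cancel_right]
    refine Nat.not_even_iff_odd.mpr (hse.2.2 y hy) (even_iff_two_dvd.mpr ?_)
    exact ((Subgroup.orderOf_mk u huL).trans hu2).symm.dvd.trans (Subgroup.orderOf_dvd_natCard _ hmem)
  have hc : Crit (G ⧸ H) D := by
    refine
      { trans := fun x y => MulAction.exists_smul_eq G x y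
        exists_ne := fun x => ?_
        inv := ?_
        conj := hconj
        one_class := fun d hd e he => isConj_iff.mp (hd.symm.trans he)
        fix_exists := ?_
        fix_unique := hfu
        central := ?_
        cent := ?_ }
    · obtain ⟨a, rfl⟩ := QuotientGroup.mk_surjective x
      obtain ⟨g, -, hg⟩ := SetLike.exists_of_lt (lt_top_iff_ne_top.mpr hH)
      exact ⟨((a * g : G) : G ⧸ H), fun e => hg (by simpa using QuotientGroup.eq.mp e.symm)⟩
    · intro d hd
      obtain ⟨g, rfl⟩ := isConj_iff.mp hd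
      exact ((MulAut.conj g).orderOf_eq z).trans hz
    · intro d hd
      obtain ⟨g, rfl⟩ := isConj_iff.mp hd
      exact ⟨_, (hfix g g).mpr rfl⟩
    · obtain ⟨y, hy, hyz⟩ := hzP
      have hyz' : (y : G) = z := hyz
      refine ⟨z, IsConj.refl z, P, hyz' ▸ y.2, fun s hs => ?_⟩
      show z * s = s * z
      rw [← hyz']
      exact (congrArg Subtype.val (Subgroup.mem_center_iff.mp hy ⟨s, hs⟩)).symm
    · intro d hd e he hne hcde c hcc x hx
      obtain ⟨g, rfl⟩ := isConj_iff.mp hd
      obtain ⟨a, rfl⟩ := QuotientGroup.mk_surjective x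
      rw [← (hfix g a).mp hx]
      have hne' : g⁻¹ * e * g ≠ z := fun e1 => hne (by rw [← e1]; group)
      have he' : g⁻¹ * e * g ∈ D := by simpa using hconj e he g⁻¹
      have hcomm : Commute z (g⁻¹ * e * g) := by
        show z * (g⁻¹ * e * g) = g⁻¹ * e * g * z
        calc z * (g⁻¹ * e * g) = g⁻¹ * ((g * z * g⁻¹) * e) * g := by group
          _ = g⁻¹ * (e * (g * z * g⁻¹)) * g := by rw [hcde.eq]
          _ = _ := by group
      have hmem := hcent _ he' hne' hcomm (g⁻¹ * c * g) (by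
        show g⁻¹ * c * g * (z * (g⁻¹ * e * g)) = z * (g⁻¹ * e * g) * (g⁻¹ * c * g)
        calc g⁻¹ * c * g * (z * (g⁻¹ * e * g)) = g⁻¹ * (c * ((g * z * g⁻¹) * e)) * g := by group
          _ = g⁻¹ * ((g * z * g⁻¹) * e * c) * g := by rw [hcc.eq]
          _ = _ := by group)
      rw [MulAction.Quotient.smul_coe, smul_eq_mul, QuotientGroup.eq]
      have := inv_mem hmem
      simpa [mul_assoc] using this
  have hstab : MulAction.stabilizer G ((1 : G) : G ⧸ H) = H := MulAction.stabilizer_quotient H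
  have hker : ∀ t ∈ Subgroup.closure D, orderOf t = 2 → ∃ x : G ⧸ H, t • x ≠ x := by
    intro t₀ ht₀K ht₀
    by_contra hall
    push Not at hall
    haveI : (Subgroup.closure D).Normal := hcl ▸ Subgroup.normalClosure_normal
    set C₀ := H.normalCore ⊓ Subgroup.closure D with hC₀def
    haveI hC₀n : C₀.Normal := Subgroup.normal_inf_normal _ _
    have hC₀fix : ∀ c ∈ C₀, ∀ x : G ⧸ H, c • x = x := by
      intro c hc' x
      obtain ⟨a, rfl⟩ := QuotientGroup.mk_surjective x
      rw [MulAction.Quotient.smul_coe, smul_eq_mul, QuotientGroup.eq]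
      have hcr : a⁻¹ * c * a⁻¹⁻¹ ∈ H := hc'.1 a⁻¹
      simpa [mul_assoc] using inv_mem hcr
    have ht₀C : t₀ ∈ C₀ := by
      refine ⟨fun y => ?_, ht₀K⟩
      have h1 := hall ((y⁻¹ : G) : G ⧸ H)
      rw [MulAction.Quotient.smul_coe, smul_eq_mul, QuotientGroup.eq] at h1
      simpa [mul_assoc] using inv_mem h1
    -- each member is conjugate under the odd core to one centralising a given involution
    set R := Cfsg.pPrimeCore 2 G ⊓ C₀ with hR
    haveI := CfsgLib.Core.normal_pPrimeCore 2 G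
    haveI hRn : R.Normal := Subgroup.normal_inf_normal _ _
    have hRodd : Odd (Nat.card R) :=
      (Nat.coprime_two_right.mp (CfsgLib.Core.coprime_card_pPrimeCore 2 G)).of_dvd_nat
        (Subgroup.card_dvd_of_le inf_le_left)
    have hcomm : ∀ d ∈ D, ∀ c ∈ C₀, d * c * d⁻¹ * c⁻¹ ∈ R := fun d hd c hc' =>
      ⟨hc.commutator_mem_oddCore C₀ hC₀fix hd hc', C₀.mul_mem (hC₀n.conj_mem c hc' d) (C₀.inv_mem hc')⟩
    have hfixorb : ∀ d ∈ D, ∀ t ∈ C₀, orderOf t = 2 →
        ∃ r ∈ R, Commute d (r * t * r⁻¹) := by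
      intro d hd t ht ht2
      set O := {y : G // ∃ r ∈ R, r * t * r⁻¹ = y}
      have htt : t * t = 1 := by rw [← pow_two, ← ht2, pow_orderOf_eq_one]
      -- the class of `t` under `R` is invariant
      have hinv : ∀ y, (∃ r ∈ R, r * t * r⁻¹ = y) → ∃ r ∈ R, r * t * r⁻¹ = d * y * d⁻¹ := by
        rintro _ ⟨r, hr, rfl⟩
        set ρ := d * t * d⁻¹ * t⁻¹ with hρ
        have hρR : ρ ∈ R := hcomm d hd t ht
        have hρt : t * ρ * t⁻¹ = ρ⁻¹ := by
          have e1 : (ρ * t) * (ρ * t) = 1 := by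
            rw [show ρ * t = d * t * d⁻¹ by rw [hρ]; group,
              show d * t * d⁻¹ * (d * t * d⁻¹) = d * (t * t) * d⁻¹ by group, htt, mul_one, mul_inv_cancel]
          rw [inv_eq_of_mul_eq_one_right htt]
          exact eq_inv_of_mul_eq_one_right (by rw [← e1]; group)
        obtain ⟨i, hi'⟩ := hRodd.of_dvd_nat (Subgroup.orderOf_dvd_natCard R hρR)
        have hsqr : ρ ^ (i + 1) * ρ ^ (i + 1) = ρ := by
          rw [← pow_add, show i + 1 + (i + 1) = orderOf ρ + 1 by omega, pow_succ, pow_orderOf_eq_one, one_mul]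
        have e2 : ρ ^ (i + 1) * t * (ρ ^ (i + 1))⁻¹ = ρ * t := by
          have h3 : t * (ρ ^ (i + 1))⁻¹ * t⁻¹ = ρ ^ (i + 1) := by
            rw [show t * (ρ ^ (i + 1))⁻¹ * t⁻¹ = (t * ρ ^ (i + 1) * t⁻¹)⁻¹ by group, ← conj_pow, hρt,
              inv_pow, inv_inv]
          calc ρ ^ (i + 1) * t * (ρ ^ (i + 1))⁻¹
              = ρ ^ (i + 1) * (t * (ρ ^ (i + 1))⁻¹ * t⁻¹) * t := by group
            _ = ρ * t := by rw [h3, hsqr]
        refine ⟨d * r * d⁻¹ * ρ ^ (i + 1), mul_mem (hRn.conj_mem r hr d) (pow_mem hρR _), ?_⟩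
        calc d * r * d⁻¹ * ρ ^ (i + 1) * t * (d * r * d⁻¹ * ρ ^ (i + 1))⁻¹
            = d * r * d⁻¹ * (ρ ^ (i + 1) * t * (ρ ^ (i + 1))⁻¹) * (d * r * d⁻¹)⁻¹ := by group
          _ = d * (r * t * r⁻¹) * d⁻¹ := by rw [e2, hρ]; group
      letI : MulAction (Subgroup.zpowers d) O :=
        { smul := fun k y => ⟨(k : G) * y.1 * (k : G)⁻¹, by
            have hk : (k : G) = 1 ∨ (k : G) = d := by
              obtain ⟨i, hi'⟩ := k.2
              rw [← hi']
              rcases Int.even_or_odd i with ⟨j, rfl⟩ | ⟨j, rfl⟩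
              · left
                show d ^ (j + j) = 1
                rw [← two_mul, zpow_mul, zpow_two, hc.sq hd, one_zpow]
              · right
                show d ^ (2 * j + 1) = d
                rw [zpow_add_one, zpow_mul, zpow_two, hc.sq hd, one_zpow, one_mul]
            rcases hk with hk | hk <;> rw [hk]
            · simpa using y.2
            · exact hinv y.1 y.2⟩
          one_smul := fun y => Subtype.ext (by show (1 : G) * y.1 * (1 : G)⁻¹ = y.1; simp)
          mul_smul := fun k k' y => Subtype.ext (by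
            show ((k : G) * k') * y.1 * ((k : G) * k')⁻¹ = (k : G) * ((k' : G) * y.1 * (k' : G)⁻¹) * (k : G)⁻¹
            group) }
      letI : MulAction R O :=
        { smul := fun r y => ⟨(r : G) * y.1 * (r : G)⁻¹, by
            obtain ⟨r', hr', e⟩ := y.2
            exact ⟨(r : G) * r', mul_mem r.2 hr', by rw [← e]; group⟩⟩
          one_smul := fun y => Subtype.ext (by show (1 : G) * y.1 * (1 : G)⁻¹ = y.1; simp)
          mul_smul := fun k k' y => Subtype.ext (by
            show ((k : G) * k') * y.1 * ((k : G) * k')⁻¹ = (k : G) * ((k' : G) * y.1 * (k' : G)⁻¹) * (k : G)⁻¹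
            group) }
      let t₁ : O := ⟨t, 1, one_mem _, by simp⟩
      have horb : MulAction.orbit R t₁ = Set.univ := Set.eq_univ_of_forall fun y => by
        obtain ⟨r, hr, e⟩ := y.2
        exact ⟨⟨r, hr⟩, Subtype.ext e⟩
      have hOodd : Odd (Nat.card O) := by
        rw [← Nat.card_congr (Equiv.Set.univ O), ← horb,
          Nat.card_congr (MulAction.orbitEquivQuotientStabilizer R t₁), ← Subgroup.index]
        exact hRodd.of_dvd_nat (Subgroup.index_dvd_card _)
      have hp : IsPGroup 2 (Subgroup.zpowers d) := IsPGroup.of_card (n := 1) (by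
        rw [Nat.card_zpowers, hc.inv d hd, pow_one])
      obtain ⟨y, hy⟩ := hp.nonempty_fixed_point_of_prime_not_dvd_card O
        (Nat.two_dvd_ne_zero.mpr (Nat.odd_iff.mp hOodd))
      obtain ⟨r, hr, e⟩ := y.2
      refine ⟨r, hr, e ▸ mul_inv_eq_iff_eq_mul.mp ?_⟩
      exact congrArg Subtype.val (hy ⟨d, Subgroup.mem_zpowers d⟩)
    -- an involution of `C₀` centralising `z`
    obtain ⟨r₀, hr₀, hr₀z⟩ := hfixorb z (IsConj.refl z) t₀ ht₀C ht₀
    set t := r₀ * t₀ * r₀⁻¹ with ht
    have htC : t ∈ C₀ := hC₀n.conj_mem t₀ ht₀C r₀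
    have ht2 : orderOf t = 2 := ((MulAut.conj r₀).orderOf_eq t₀).trans ht₀
    have htt : t * t = 1 := by rw [← pow_two, ← ht2, pow_orderOf_eq_one]
    obtain ⟨b, hb⟩ := hc.exists_ne ((1 : G) : G ⧸ H)
    obtain ⟨f, hf, hfb, hft⟩ := hc.exists_mem_commute htt (hC₀fix t htC b)
    have hfH : f ∉ H := fun hfH => hb (hfu f hf b _ hfb (by
      rw [← MulAction.mem_stabilizer_iff, hstab]; exact hfH))
    have hse := hii t ht2 hr₀z.symm.eq
      (fun hle => hfH (hle (Subgroup.mem_centralizer_singleton_iff.mpr hft)))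
    set L := Subgroup.closure {x : G | IsConj z x ∧ x * t = t * x} with hL
    have hK : Subgroup.closure D ≤ R ⊔ L := by
      refine (Subgroup.closure_le _).mpr fun d hd => ?_
      obtain ⟨r, hr, hrd⟩ := hfixorb d hd t htC ht2
      have hd' : IsConj z (r⁻¹ * d * r) := by
        have h1 : IsConj z (r⁻¹ * d * r⁻¹⁻¹) := hconj d hd r⁻¹
        rwa [inv_inv] at h1
      have hmem : r⁻¹ * d * r ∈ L := Subgroup.subset_closure ⟨hd', by
        calc r⁻¹ * d * r * t = r⁻¹ * (d * (r * t * r⁻¹)) * r := by group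
          _ = r⁻¹ * ((r * t * r⁻¹) * d) * r := by rw [hrd.eq]
          _ = _ := by group⟩
      rw [show d = r * (r⁻¹ * d * r) * r⁻¹ by group]
      exact mul_mem (mul_mem ((le_sup_left : R ≤ R ⊔ L) hr) ((le_sup_right : L ≤ R ⊔ L) hmem))
        (inv_mem ((le_sup_left : R ≤ R ⊔ L) hr))
    obtain ⟨r, hr, l, hl, hrl⟩ := Subgroup.mem_sup_of_normal_left.mp (hK htC.2)
    have hlC : l ∈ C₀ := by
      rw [show l = r⁻¹ * t by rw [← hrl]; group]
      exact mul_mem (inv_mem hr.2) htC
    have hlodd : Odd (orderOf l) := by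
      rw [← Nat.not_even_iff_odd]
      intro hev
      obtain ⟨y, -, hy⟩ := SetLike.exists_of_lt (lt_top_iff_ne_top.mpr hse.1)
      obtain ⟨m, hm⟩ := hev
      have hmpos : 0 < m := by have := orderOf_pos l; omega
      have hlm : orderOf (l ^ m) = 2 := orderOf_eq_prime
        (by rw [← pow_mul, show m * 2 = orderOf l by omega, pow_orderOf_eq_one])
        (fun e => by
          have := Nat.le_of_dvd hmpos (orderOf_dvd_of_pow_eq_one e)
          omega)
      have hmem : (⟨l ^ m, pow_mem hl m⟩ : L) ∈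
          H.subgroupOf L ⊓ (H.subgroupOf L).map (MulAut.conj y).toMonoidHom := by
        refine ⟨Subgroup.normalCore_le H (pow_mem hlC m).1,
          y⁻¹ * ⟨l ^ m, pow_mem hl m⟩ * y, ?_, ?_⟩
        · have h1 : (y : G)⁻¹ * l ^ m * (y : G)⁻¹⁻¹ ∈ H :=
            Subgroup.normalCore_le H (hC₀n.conj_mem _ (pow_mem hlC m) (y : G)⁻¹).1
          show (y : G)⁻¹ * l ^ m * (y : G) ∈ H
          simpa using h1
        · show y * (y⁻¹ * ⟨l ^ m, pow_mem hl m⟩ * y) * y⁻¹ = _
          group
      refine Nat.not_even_iff_odd.mpr (hse.2.2 y hy) (even_iff_two_dvd.mpr ?_)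
      exact ((Subgroup.orderOf_mk (l ^ m) _).trans hlm).symm.dvd.trans (Subgroup.orderOf_dvd_natCard _ hmem)
    -- so `t` would have odd order modulo `R`
    have hq : (QuotientGroup.mk' R) t = (QuotientGroup.mk' R) l := by
      rw [← hrl, map_mul, show (QuotientGroup.mk' R) r = 1 from (QuotientGroup.eq_one_iff r).mpr hr, one_mul]
    have htR : t ∈ R := by
      obtain ⟨i, hi'⟩ := hlodd
      have h1 : ((QuotientGroup.mk' R) t) ^ (2 * i + 1) = 1 := by
        rw [hq, ← map_pow, ← hi', pow_orderOf_eq_one, map_one]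
      rw [pow_succ, pow_mul, ← map_pow, pow_two t, htt, map_one, one_pow, one_mul] at h1
      exact (QuotientGroup.eq_one_iff t).mp h1
    exact Nat.not_even_iff_odd.mpr hRodd (even_iff_two_dvd.mpr
      (ht2.symm.dvd.trans (Subgroup.orderOf_dvd_natCard _ htR)))
  rw [hcl]
  conv => arg 1; rw [← hstab]
  exact hc.stronglyEmbedded_closure hmain hker _

end Conjugates

end CfsgLib.AschCrit
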