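import Cfsg.Agent.Lib.Invol.AschCrit.Wrapper
import Cfsg.Prelude.Def_TwoFusion

/-!
Owner: helper8. A strongly closed subgroup whose involutions have centralisers generating a proper
subgroup yields a strongly embedded subgroup (S1174), from Aschbacher's criterion.
-/

set_option autoImplicit false

namespace CfsgLib.AschCrit

universe u

variable {G : Type u} [Group G] [Finite G]

/-- An involution of a subgroup containing a Sylow subgroup is conjugate into it inside the subgroup. -/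
theorem exists_conj_mem_sylow (S : Sylow 2 G) {K : Subgroup G} (hS : (S : Subgroup G) ≤ K) {x : G}
    (hx : x ∈ K) (hx2 : x ^ 2 = 1) : ∃ k ∈ K, k * x * k⁻¹ ∈ (S : Subgroup G) := by
  haveI : Fact (Nat.Prime 2) := ⟨Nat.prime_two⟩
  obtain ⟨Q, hQ⟩ := IsPGroup.exists_le_sylow (p := 2) (P := Subgroup.zpowers (⟨x, hx⟩ : K))
    (fun y => ⟨1, by
      obtain ⟨y, j, rfl⟩ := y
      refine Subtype.ext (Subtype.ext ?_)
      show (x ^ j) ^ (2 ^ 1) = 1
      rw [pow_one, ← zpow_natCast (x ^ j), ← zpow_mul, mul_comm, zpow_mul, zpow_natCast, hx2, one_zpow]⟩)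
  obtain ⟨k, hk⟩ := MulAction.exists_smul_eq K Q (S.subtype hS)
  refine ⟨k, k.2, ?_⟩
  have h1 : k * ⟨x, hx⟩ * k⁻¹ ∈ ((k • Q : Sylow 2 K) : Subgroup K) := by
    rw [Sylow.coe_subgroup_smul, Subgroup.mem_pointwise_smul_iff_inv_smul_mem]
    simpa [MulAut.conj_apply, mul_assoc] using hQ (Subgroup.mem_zpowers _)
  rw [hk, Sylow.coe_subtype, Subgroup.mem_subgroupOf] at h1
  simpa using h1

/-- S1174 from the criterion. -/
theorem stronglyEmbedded_of_stronglyClosed (hmain : Main.{u}) [IsSimpleGroup G] (S : Sylow 2 G)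
    (T : Subgroup G) (hT1 : T ≠ ⊥) (hT : Cfsg.IsStronglyClosed T (S : Subgroup G))
    (hprop : (⨆ t : {t : G // t ∈ T ∧ orderOf t = 2}, Subgroup.centralizer ({(t : G)} : Set G)) ≠ ⊤) :
    ∃ H : Subgroup G, Cfsg.IsStronglyEmbedded H := by
  classical
  haveI : Fact (Nat.Prime 2) := ⟨Nat.prime_two⟩
  set M := ⨆ t : {t : G // t ∈ T ∧ orderOf t = 2}, Subgroup.centralizer ({(t : G)} : Set G) with hM
  have hcM : ∀ t ∈ T, orderOf t = 2 → ∀ c : G, Commute c t → c ∈ M := fun t ht ht2 c hc =>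
    le_iSup (fun t : {t : G // t ∈ T ∧ orderOf t = 2} => Subgroup.centralizer ({(t : G)} : Set G))
      ⟨t, ht, ht2⟩ (Subgroup.mem_centralizer_singleton_iff.mpr hc)
  have hnorm : ∀ n : G, (∀ s ∈ (S : Subgroup G), n * s * n⁻¹ ∈ (S : Subgroup G)) →
      n ∈ Subgroup.normalizer (M : Set G) := by
    intro n hn
    have hle : M ≤ M.comap (MulAut.conj n).toMonoidHom := by
      rw [hM]
      refine iSup_le fun t c hc => ?_
      have ht' : n * (t : G) * n⁻¹ ∈ T := hT.2 _ t.2.1 n (hn _ (hT.1 t.2.1))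
      refine hcM _ ht' (((MulAut.conj n).orderOf_eq _).trans t.2.2) _ ?_
      show n * c * n⁻¹ * (n * t * n⁻¹) = n * t * n⁻¹ * (n * c * n⁻¹)
      have := Subgroup.mem_centralizer_singleton_iff.mp hc
      calc n * c * n⁻¹ * (n * t * n⁻¹) = n * (c * t) * n⁻¹ := by group
        _ = n * (t * c) * n⁻¹ := by rw [this]
        _ = _ := by group
    exact Subgroup.mem_normalizer_fintype fun c hc => hle hc
  obtain ⟨z, hzT, hz, hzS⟩ : ∃ z ∈ T, orderOf z = 2 ∧ ∀ s ∈ (S : Subgroup G), Commute s z := by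
    letI : MulAction (S : Subgroup G) T :=
      { smul := fun s t => ⟨(s : G) * t * (s : G)⁻¹, hT.2 _ t.2 _
          (mul_mem (mul_mem s.2 (hT.1 t.2)) (inv_mem s.2))⟩
        one_smul := fun t => Subtype.ext (by show (1 : G) * t * (1 : G)⁻¹ = t; simp)
        mul_smul := fun s s' t => Subtype.ext (by
          show ((s : G) * s') * t * ((s : G) * s')⁻¹ = (s : G) * ((s' : G) * t * (s' : G)⁻¹) * (s : G)⁻¹
          group) }
    have hT2 : IsPGroup 2 T := S.2.to_le hT.1
    haveI : Nontrivial T := T.nontrivial_iff_ne_bot.mpr hT1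
    obtain ⟨n, hn, hcard⟩ := hT2.nontrivial_iff_card.mp inferInstance
    obtain ⟨t, ht, ht1⟩ := S.2.exists_fixed_point_of_prime_dvd_card_of_fixed_point T
      (hcard ▸ dvd_pow_self 2 hn.ne') (a := 1)
      (fun s => Subtype.ext (by show (s : G) * (1 : G) * (s : G)⁻¹ = 1; simp))
    have htS : ∀ s ∈ (S : Subgroup G), Commute s (t : G) := fun s hs =>
      mul_inv_eq_iff_eq_mul.mp (congrArg Subtype.val (ht ⟨s, hs⟩) : s * (t : G) * s⁻¹ = t)
    obtain ⟨k, hk⟩ := hT2 t
    obtain ⟨m, hm⟩ : ∃ m, orderOf (t : G) = 2 ^ m := by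
      obtain ⟨m, -, hm⟩ := (Nat.dvd_prime_pow Nat.prime_two).mp
        (orderOf_dvd_of_pow_eq_one (show (t : G) ^ (2 ^ k) = 1 by exact_mod_cast hk))
      exact ⟨m, hm⟩
    cases m with
    | zero => exact absurd (Subtype.ext (orderOf_eq_one_iff.mp hm)) ht1.symm
    | succ m =>
      refine ⟨(t : G) ^ (2 ^ m), pow_mem t.2 _, ?_, fun s hs => (htS s hs).pow_right _⟩
      rw [orderOf_pow' _ (pow_ne_zero _ two_ne_zero), hm,
        Nat.gcd_eq_right (pow_dvd_pow 2 m.le_succ), pow_succ, Nat.mul_div_cancel_left _ (by positivity)]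
  have hSM : (S : Subgroup G) ≤ M := fun s hs => hcM z hzT hz s (hzS s hs)
  have hMH : M ≤ Subgroup.normalizer (M : Set G) := Subgroup.le_normalizer
  have hzH : z ∈ Subgroup.normalizer (M : Set G) := hMH (hSM (hT.1 hzT))
  refine criterion_of_main hmain _ ?_ z hz hzH ⟨S, hT.1 hzT, fun s hs => hzS s hs⟩ ?_ ?_
  · intro htop
    rcases IsSimpleGroup.eq_bot_or_eq_top_of_normal M (Subgroup.normalizer_eq_top_iff.mp htop) with h | h
    · have := hSM (hT.1 hzT)
      rw [h, Subgroup.mem_bot] at this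
      rw [this, orderOf_one] at hz
      omega
    · exact hprop h
  · intro g hg
    obtain ⟨h, hh, hmem⟩ := exists_conj_mem_sylow S (hSM.trans hMH) hg
      (by rw [conj_pow, ← hz, pow_orderOf_eq_one]; simp)
    have hT' : (h * g) * z * (h * g)⁻¹ ∈ T :=
      hT.2 z hzT (h * g) (by rwa [show (h * g) * z * (h * g)⁻¹ = h * (g * z * g⁻¹) * h⁻¹ by group])
    have hsub : (((h * g) • S : Sylow 2 G) : Subgroup G) ≤ M := by
      intro x hx
      rw [Sylow.coe_subgroup_smul, Subgroup.mem_pointwise_smul_iff_inv_smul_mem] at hx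
      refine hcM _ hT' (by rw [← hz]; exact (MulAut.conj (h * g)).orderOf_eq _) x ?_
      have h1 : (h * g)⁻¹ * x * (h * g) ∈ (S : Subgroup G) := by
        simpa [MulAut.conj_apply, mul_assoc] using hx
      calc x * (h * g * z * (h * g)⁻¹) = h * g * ((h * g)⁻¹ * x * (h * g) * z) * (h * g)⁻¹ := by group
        _ = h * g * (z * ((h * g)⁻¹ * x * (h * g))) * (h * g)⁻¹ := by rw [(hzS _ h1).eq]
        _ = _ := by group
    obtain ⟨m, hm⟩ := MulAction.exists_smul_eq M (((h * g) • S).subtype hsub) (S.subtype hSM)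
    rw [Sylow.smul_subtype] at hm
    have h2 : (m : G) • (h * g) • S = S := Sylow.subtype_injective hm
    rw [← mul_smul, Sylow.smul_eq_iff_mem_normalizer] at h2
    have h3 := hnorm _ fun s hs => (Subgroup.mem_normalizer_iff.mp h2 s).mp hs
    exact (Subgroup.mul_mem_cancel_left _ hh).mp ((Subgroup.mul_mem_cancel_left _ (hMH m.2)).mp h3)
  · intro g hc hne x hx
    have hz2 : z ^ 2 = 1 := by rw [← hz, pow_orderOf_eq_one]
    obtain ⟨c, hc', hmem⟩ := exists_conj_mem_sylow S (K := Subgroup.centralizer ({z} : Set G))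
      (fun s hs => Subgroup.mem_centralizer_singleton_iff.mpr (hzS s hs))
      (x := g * z * g⁻¹) (Subgroup.mem_centralizer_singleton_iff.mpr hc.symm)
      (by rw [conj_pow, hz2]; simp)
    have hcz : Commute c z := Subgroup.mem_centralizer_singleton_iff.mp hc'
    have hcMem : c ∈ M := hcM z hzT hz c hcz
    have hT' : (c * g) * z * (c * g)⁻¹ ∈ T :=
      hT.2 z hzT (c * g) (by rwa [show (c * g) * z * (c * g)⁻¹ = c * (g * z * g⁻¹) * c⁻¹ by group])
    have e1 : c * (z * (g * z * g⁻¹)) * c⁻¹ = z * ((c * g) * z * (c * g)⁻¹) := by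
      calc c * (z * (g * z * g⁻¹)) * c⁻¹ = c * z * (g * z * g⁻¹) * c⁻¹ := by group
        _ = z * c * (g * z * g⁻¹) * c⁻¹ := by rw [hcz.eq]
        _ = _ := by group
    have hord : orderOf (c * (z * (g * z * g⁻¹)) * c⁻¹) = 2 := by
      rw [show c * (z * (g * z * g⁻¹)) * c⁻¹ = MulAut.conj c (z * (g * z * g⁻¹)) from rfl,
        MulEquiv.orderOf_eq]
      refine orderOf_eq_prime (by rw [hc.mul_pow, conj_pow, hz2]; simp) fun e => hne ?_
      rw [← inv_eq_of_mul_eq_one_right e, inv_eq_of_mul_eq_one_right (by rwa [← pow_two])]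
    refine hMH ?_
    have hx' := Subgroup.mem_centralizer_singleton_iff.mp hx
    have h4 : c * x * c⁻¹ ∈ M := hcM _ (e1 ▸ mul_mem hzT hT') hord _ (by
      show c * x * c⁻¹ * (c * (z * (g * z * g⁻¹)) * c⁻¹) = _
      calc c * x * c⁻¹ * (c * (z * (g * z * g⁻¹)) * c⁻¹) = c * (x * (z * (g * z * g⁻¹))) * c⁻¹ := by group
        _ = c * (z * (g * z * g⁻¹) * x) * c⁻¹ := by rw [hx']
        _ = _ := by group)
    simpa [mul_assoc] using mul_mem (mul_mem (inv_mem hcMem) h4) hcMem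

end CfsgLib.AschCrit
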