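import Cfsg.Agent.Lib.Invol.AschCrit.Dep.Closure
import Cfsg.Prelude.Def_Local

/-!
Owner: helper8. A tightly embedded subgroup `Q` whose conjugates meet its normaliser `N` in odd order
gives the hypotheses of Aschbacher's criterion on the cosets of `N`.
-/

set_option autoImplicit false

namespace CfsgLib.AschCrit

variable {G : Type*} [Group G] [Finite G]

/-- A two-group normalising `Q` and meeting it in an involution centralises an involution of their
intersection. -/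
theorem exists_central_involution {S Q : Subgroup G} (hS : IsPGroup 2 S)
    (hSQ : S ≤ Subgroup.normalizer (Q : Set G)) {q : G} (hq : q ∈ Q) (hqS : q ∈ S) (hq2 : orderOf q = 2) :
    ∃ z ∈ Q, z ∈ S ∧ orderOf z = 2 ∧ ∀ s ∈ S, Commute s z := by
  haveI : Fact (Nat.Prime 2) := ⟨Nat.prime_two⟩
  letI : MulAction S (Q ⊓ S : Subgroup G) :=
    { smul := fun s t => ⟨(s : G) * t * (s : G)⁻¹,
        (Subgroup.mem_normalizer_iff.mp (hSQ s.2) _).mp t.2.1,
        S.mul_mem (S.mul_mem s.2 t.2.2) (S.inv_mem s.2)⟩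
      one_smul := fun t => Subtype.ext (by show (1 : G) * t * (1 : G)⁻¹ = t; simp)
      mul_smul := fun s s' t => Subtype.ext (by
        show ((s : G) * s') * t * ((s : G) * s')⁻¹ = (s : G) * ((s' : G) * t * (s' : G)⁻¹) * (s : G)⁻¹
        group) }
  have hT2 : IsPGroup 2 (Q ⊓ S : Subgroup G) := hS.to_le inf_le_right
  have hdvd : 2 ∣ Nat.card (Q ⊓ S : Subgroup G) :=
    hq2.symm.dvd.trans (Subgroup.orderOf_dvd_natCard _ ⟨hq, hqS⟩)
  obtain ⟨t, ht, ht1⟩ := hS.exists_fixed_point_of_prime_dvd_card_of_fixed_point (Q ⊓ S : Subgroup G)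
    hdvd (a := 1) (fun s => Subtype.ext (by show (s : G) * (1 : G) * (s : G)⁻¹ = 1; simp))
  have htS : ∀ s ∈ S, Commute s (t : G) := fun s hs =>
    mul_inv_eq_iff_eq_mul.mp (congrArg Subtype.val (ht ⟨s, hs⟩) : s * (t : G) * s⁻¹ = t)
  obtain ⟨m, hm⟩ := IsPGroup.iff_orderOf.mp hT2 t
  rw [← Subgroup.orderOf_coe] at hm
  cases m with
  | zero => exact absurd (Subtype.ext (orderOf_eq_one_iff.mp hm)) ht1.symm
  | succ m =>
    refine ⟨(t : G) ^ (2 ^ m), pow_mem t.2.1 _, pow_mem t.2.2 _, ?_, fun s hs => (htS s hs).pow_right _⟩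
    rw [orderOf_pow' _ (pow_ne_zero _ two_ne_zero), hm,
      Nat.gcd_eq_right (pow_dvd_pow 2 m.le_succ), pow_succ, Nat.mul_div_cancel_left _ (by positivity)]

/-- An involution of `Q` moved into `N` by `g` puts `g` into `N`. -/
theorem mem_normalizer_of_conj (Q : Subgroup G)
    (hodd : ∀ g : G, g ∉ Subgroup.normalizer (Q : Set G) →
      Odd (Nat.card ↥(Q.map (MulAut.conj g).toMonoidHom ⊓ Subgroup.normalizer (Q : Set G))))
    {q g : G} (hq : q ∈ Q) (hq2 : orderOf q = 2) (h : g * q * g⁻¹ ∈ Subgroup.normalizer (Q : Set G)) :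
    g ∈ Subgroup.normalizer (Q : Set G) := by
  by_contra hg
  have hm : g * q * g⁻¹ ∈ Q.map (MulAut.conj g).toMonoidHom ⊓ Subgroup.normalizer (Q : Set G) :=
    ⟨⟨q, hq, rfl⟩, h⟩
  refine (Nat.not_even_iff_odd.mpr (hodd g hg)) (even_iff_two_dvd.mpr ?_)
  exact (((MulAut.conj g).orderOf_eq q).trans hq2).symm.dvd.trans (Subgroup.orderOf_dvd_natCard _ hm)

/-- The hypotheses of the criterion on the cosets of the normaliser. -/
theorem crit_of_tight (Q : Subgroup G) (hev : Even (Nat.card Q))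
    (hodd : ∀ g : G, g ∉ Subgroup.normalizer (Q : Set G) →
      Odd (Nat.card ↥(Q.map (MulAut.conj g).toMonoidHom ⊓ Subgroup.normalizer (Q : Set G))))
    (hne : Subgroup.normalizer (Q : Set G) ≠ ⊤) :
    ∃ z ∈ Q, orderOf z = 2 ∧
      Crit (G ⧸ Subgroup.normalizer (Q : Set G)) {d : G | ∃ g : G, g * z * g⁻¹ = d} := by
  classical
  haveI : Fact (Nat.Prime 2) := ⟨Nat.prime_two⟩
  set N := Subgroup.normalizer (Q : Set G) with hN
  have hkey : ∀ {q g : G}, q ∈ Q → orderOf q = 2 → g * q * g⁻¹ ∈ N → g ∈ N :=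
    fun hq hq2 h => mem_normalizer_of_conj Q hodd hq hq2 h
  have hQN : Q ≤ N := Subgroup.le_normalizer
  -- a Sylow subgroup of `N` through an involution of `Q` is one of `G`
  obtain ⟨q, hq2⟩ := exists_prime_orderOf_dvd_card' 2 (even_iff_two_dvd.mp hev)
  rw [← Subgroup.orderOf_coe] at hq2
  obtain ⟨R, hR⟩ := IsPGroup.exists_le_sylow (p := 2) (P := Subgroup.zpowers (⟨q, hQN q.2⟩ : N))
    (IsPGroup.of_card (n := 1) (by rw [Nat.card_zpowers, Subgroup.orderOf_mk, hq2, pow_one]))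
  have hqR : (⟨q, hQN q.2⟩ : N) ∈ (R : Subgroup N) := hR (Subgroup.mem_zpowers _)
  obtain ⟨S, hS⟩ := (R.2.map N.subtype).exists_le_sylow
  have hqS : (q : G) ∈ (S : Subgroup G) := hS ⟨_, hqR, rfl⟩
  have hSN : (S : Subgroup G) ≤ N := by
    by_contra hno
    haveI := S.2.isNilpotent
    have hlt : N.subgroupOf (S : Subgroup G) < ⊤ := lt_top_iff_ne_top.mpr fun e =>
      hno (Subgroup.subgroupOf_eq_top.mp e)
    obtain ⟨g, hgN, hgR⟩ := SetLike.exists_of_lt (Group.normalizerCondition_of_isNilpotent _ hlt)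
    refine hgR (Subgroup.mem_subgroupOf.mpr (hkey q.2 hq2 ?_))
    have h2 := (Subgroup.mem_normalizer_iff.mp hgN ⟨(q : G), hqS⟩).mp
      (Subgroup.mem_subgroupOf.mpr (hQN q.2))
    simpa [Subgroup.mem_subgroupOf] using h2
  obtain ⟨z, hzQ, hzS, hz, hcom⟩ := exists_central_involution S.2 hSN q.2 hqS hq2
  refine ⟨z, hzQ, hz, ?_⟩
  have hfix : ∀ g x : G, (g * z * g⁻¹) • (x : G ⧸ N) = (x : G ⧸ N) ↔ (g : G ⧸ N) = (x : G ⧸ N) := by
    intro g x
    rw [MulAction.Quotient.smul_coe, smul_eq_mul, QuotientGroup.eq, QuotientGroup.eq]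
    constructor
    · intro h
      have h' : (x⁻¹ * g) * z * (x⁻¹ * g)⁻¹ ∈ N := by
        have := inv_mem h
        simpa [mul_assoc] using this
      have h4 := inv_mem (hkey hzQ hz h')
      simpa using h4
    · intro h
      have h' := mul_mem (mul_mem (inv_mem h) (inv_mem (hQN hzQ))) h
      have h'' : (g⁻¹ * x)⁻¹ * z⁻¹ * (g⁻¹ * x) ∈ N := h'
      simpa [mul_assoc] using h''
  have hfu : ∀ g x y : G, (g * z * g⁻¹) • (x : G ⧸ N) = x → (g * z * g⁻¹) • (y : G ⧸ N) = y →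
      (x : G ⧸ N) = y := fun g x y hx hy => ((hfix g x).mp hx).symm.trans ((hfix g y).mp hy)
  refine
    { trans := fun x y => MulAction.exists_smul_eq G x y
      exists_ne := fun x => ?_
      inv := ?_
      conj := ?_
      one_class := ?_
      fix_exists := ?_
      fix_unique := ?_
      central := ?_
      cent := ?_ }
  · obtain ⟨a, rfl⟩ := QuotientGroup.mk_surjective x
    obtain ⟨g, -, hg⟩ := SetLike.exists_of_lt (lt_top_iff_ne_top.mpr hne)
    exact ⟨((a * g : G) : G ⧸ N), fun e => hg (by simpa using QuotientGroup.eq.mp e.symm)⟩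
  · rintro d ⟨g, rfl⟩
    exact ((MulAut.conj g).orderOf_eq z).trans hz
  · rintro d ⟨g, rfl⟩ x
    exact ⟨x * g, by group⟩
  · rintro d ⟨g, rfl⟩ e ⟨g', rfl⟩
    exact ⟨g' * g⁻¹, by group⟩
  · rintro d ⟨g, rfl⟩
    exact ⟨_, (hfix g g).mpr rfl⟩
  · rintro d ⟨g, rfl⟩ x y hx hy
    obtain ⟨a, rfl⟩ := QuotientGroup.mk_surjective x
    obtain ⟨b, rfl⟩ := QuotientGroup.mk_surjective y
    exact hfu g a b hx hy
  · exact ⟨z, ⟨1, by simp⟩, S, hzS, fun s hs => (hcom s hs).symm⟩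
  · rintro d ⟨g, rfl⟩ e ⟨g', rfl⟩ hne' hc c hcc x hx
    obtain ⟨a, rfl⟩ := QuotientGroup.mk_surjective x
    rw [← (hfix g a).mp hx]
    -- the two members lie in the same conjugate of `Q`
    have hg' : (g' : G ⧸ N) = (g : G ⧸ N) := by
      refine (hfix g' g).mp ?_
      obtain ⟨b, hb⟩ := QuotientGroup.mk_surjective ((g' * z * g'⁻¹) • (g : G ⧸ N))
      rw [← hb]
      refine hfu g b g ?_ ((hfix g g).mpr rfl)
      rw [hb, ← mul_smul, hc.eq, mul_smul, (hfix g g).mpr rfl]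
    have hgg : g⁻¹ * g' ∈ N := QuotientGroup.eq.mp hg'.symm
    set w := g⁻¹ * ((g * z * g⁻¹) * (g' * z * g'⁻¹)) * g with hw
    have hwQ : w ∈ Q := by
      rw [show w = z * ((g⁻¹ * g') * z * (g⁻¹ * g')⁻¹) by rw [hw]; group]
      exact mul_mem hzQ ((Subgroup.mem_normalizer_iff.mp hgg _).mp hzQ)
    have hz2 : z ^ 2 = 1 := by rw [← hz, pow_orderOf_eq_one]
    have hw2 : orderOf w = 2 := by
      rw [show w = MulAut.conj g⁻¹ ((g * z * g⁻¹) * (g' * z * g'⁻¹)) by simp [hw],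
        MulEquiv.orderOf_eq]
      refine orderOf_eq_prime (by rw [hc.mul_pow, conj_pow, conj_pow, hz2]; simp) fun e => hne' ?_
      have h1 : (g * z * g⁻¹) * (g * z * g⁻¹) = 1 := by rw [← pow_two, conj_pow, hz2]; simp
      exact mul_left_cancel (h1.trans e.symm)
    have hmem : (g⁻¹ * c * g) * w * (g⁻¹ * c * g)⁻¹ ∈ N := by
      rw [show (g⁻¹ * c * g) * w * (g⁻¹ * c * g)⁻¹ = w by
        rw [hw]
        calc g⁻¹ * c * g * (g⁻¹ * ((g * z * g⁻¹) * (g' * z * g'⁻¹)) * g) * (g⁻¹ * c * g)⁻¹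
            = g⁻¹ * (c * ((g * z * g⁻¹) * (g' * z * g'⁻¹))) * c⁻¹ * g := by group
          _ = g⁻¹ * (((g * z * g⁻¹) * (g' * z * g'⁻¹)) * c) * c⁻¹ * g := by rw [hcc.eq]
          _ = _ := by group]
      exact hQN hwQ
    have := inv_mem (hkey hwQ hw2 hmem)
    rw [MulAction.Quotient.smul_coe, smul_eq_mul, QuotientGroup.eq]
    simpa [mul_assoc] using this

end CfsgLib.AschCrit
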