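import Cfsg.Agent.Lib.Invol.AschCrit.Dep.TightClosure
import Cfsg.Agent.Lib.Invol.RankOneInter.TIAuto
import Cfsg.Agent.Lib.Invol.RankOneInter.Final.Names

/-!
Owner: helper18. S1911 from Aschbacher's criterion: in the faithful Bender case the two-elements of `Q` lie in `<D>`.

* `Tight.exists_bender`: `<D>` is simple and has a rank one setup at the base point.
* `Tight.two_mem_closure`: the two-elements of `Q` lie in `<D>`.
-/

set_option autoImplicit false
set_option linter.style.haveILetI false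
set_option linter.unusedSectionVars false

namespace CfsgLib.AschCrit

open Subgroup MulAction CfsgLib.Lie.RankOne CfsgLib.Lie.RankOneClass
open CfsgLib.OddTransitive.RankOne (involutionGroup exists_cyclic)

universe u

/-- Commutators of the kernel of a simple rank one setup lie in its involution group. -/
theorem comm_mem_involutionGroup {G Ω : Type*} [Group G] [Finite G] [MulAction G Ω] [FaithfulSMul G Ω] {a : Ω}
    {t : G} {U : Subgroup G} (hS : Cfsg.IsRankOneSetup G Ω a t U)
    (h2 : ∃ x y : G, x ≠ 1 ∧ y ≠ 1 ∧ x ≠ y ∧ x * x = 1 ∧ y * y = 1 ∧ x * y = y * x) (hU : IsPGroup 2 U)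
    {v w : G} (hv : v ∈ U) (hw : w ∈ U) : v⁻¹ * w⁻¹ * v * w ∈ involutionGroup hS h2 := by
  obtain ⟨P⟩ := exists_qdec hS h2
  have hS' : ∀ {y : G}, y ∈ U → y ∈ P.S := fun {y} hy => by
    obtain ⟨i, hi⟩ := hU ⟨y, hy⟩
    exact P.mem_S hy (i := i) (congrArg Subtype.val hi)
  rcases P.S_cases hS h2 with h | ⟨-, h, -⟩
  · rw [show v⁻¹ * w⁻¹ * v * w = v⁻¹ * w⁻¹ * (v * w) by group, h v (hS' hv) w (hS' hw),
      show v⁻¹ * w⁻¹ * (w * v) = 1 by group]
    exact one_mem _
  · exact h v (hS' hv) w (hS' hw)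

variable {G : Type u} [Group G] [Finite G] {Ω : Type u} [MulAction G Ω] {D : Set G} {a : Ω} {Q : Subgroup G}

namespace Tight

variable (h : Tight D a Q)
include h

/-- `<D>` in the Bender case. -/
theorem exists_bender (hmain : Main.{u}) (hf : Faithful G Ω) (hr : ¬ RankOne (Subgroup.closure D)) :
    IsSimpleGroup (Subgroup.closure D) ∧
    (∃ x y : Subgroup.closure D, x ≠ 1 ∧ y ≠ 1 ∧ x ≠ y ∧ x * x = 1 ∧ y * y = 1 ∧ x * y = y * x) ∧
    ∃ U : Subgroup (Subgroup.closure D), IsPGroup 2 U ∧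
      (∀ t, t * t = 1 → t • a ≠ a → Cfsg.IsRankOneSetup (Subgroup.closure D) Ω a t U) ∧
      ∀ b : Ω, b ≠ a → ∃ t ∈ memsIn D (Subgroup.closure D), t • a = b := by
  haveI := h.crit.finite_points
  have hc := h.crit_closure hf
  have hfK : Faithful (Subgroup.closure D) Ω := fun g hg => Subtype.ext (hf g fun x => hg x)
  have hn := h.noMulti_closure hmain hf
  refine ⟨?_, hc.exists_setup hfK hn hr a⟩
  have hfam := (hc.rankOne_or_family hfK hn).resolve_left hr
  haveI := CfsgLib.RankOneInter.Final.isSimple_of_family hfam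
  have htop : Cfsg.pElementClosure 2 (⊤ : Subgroup (Subgroup.closure D)) = ⊤ := by
    rw [eq_top_iff]
    refine le_of_eq_of_le (Subgroup.closure_closure_coe_preimage (k := D)).symm ((Subgroup.closure_le _).2 ?_)
    intro d hd
    show d ∈ Cfsg.pElementClosure 2 (⊤ : Subgroup (Subgroup.closure D))
    exact Subgroup.subset_closure ⟨Subgroup.mem_top d, 1, by rw [pow_one]; exact hc.inv d hd⟩
  exact ((MulEquiv.subgroupCongr htop).trans Subgroup.topEquiv).isSimpleGroup_congr.1 inferInstance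

/-- A two-element of `Q` is in `<D>`. -/
theorem two_mem_closure (hmain : Main.{u}) (hf : Faithful G Ω) (hr : ¬ RankOne (Subgroup.closure D)) {x : G}
    (hx : x ∈ Q) {n : ℕ} (hxn : x ^ 2 ^ n = 1) : x ∈ Subgroup.closure D := by
  classical
  haveI := Fact.mk Nat.prime_two
  haveI := h.crit.finite_points
  set K := Subgroup.closure D with hK
  obtain ⟨hsimp, h2, U, hUp, hset, hsw⟩ := h.exists_bender hmain hf hr
  haveI := hsimp
  haveI : FaithfulSMul K Ω := faithfulSMul_iff.2 fun g hg => Subtype.ext (hf g fun x => hg x)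
  have hn := h.noMulti_closure hmain hf
  have hc := h.crit_closure hf
  have hfK : Faithful K Ω := fun g hg => Subtype.ext (hf g fun x => hg x)
  obtain ⟨b, hb⟩ := h.crit.exists_ne a
  obtain ⟨t, htD, hta⟩ := hsw b hb
  have hS := hset t (hc.sq htD) (hta ▸ hb)
  have hJQ : ∀ z : K, z • a = a → z ≠ 1 → z * z = 1 → (z : G) ∈ Q := fun z hza hz1 hzz =>
    h.mem _ (hc.mem_of_noMulti hfK hn (orderOf_eq_prime (by rw [pow_two, hzz]) hz1) hza) hza
  have hZQ : ∀ z ∈ involutionGroup hS h2, ((z : K) : G) ∈ Q := by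
    rintro z (rfl | hz)
    · exact one_mem _
    · exact hJQ z hz.1 hz.2.1 hz.2.2
  have hconjK : ∀ (g : G) (k : K), g * (k : G) * g⁻¹ ∈ K := fun g k => by
    have hle : K ≤ K.comap (MulAut.conj g).toMonoidHom :=
      (closure_le _).2 fun d hd => subset_closure (h.crit.conj d hd g)
    exact hle k.2
  have hfixinv : ∀ {g : G} {p : Ω}, g • p = p → g⁻¹ • p = p := fun hg => inv_smul_eq_iff.2 hg.symm
  set UG := U.map K.subtype with hUG
  have hUGp : IsPGroup 2 UG := hUp.map _
  have hUmem : ∀ {g : G}, g ∈ K → g • a = a → (∃ m : ℕ, g ^ 2 ^ m = 1) → g ∈ UG := fun {g} hg hga ⟨m, hm⟩ =>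
    ⟨⟨g, hg⟩, CfsgLib.RankOneInter.TIAuto.mem_Q_of_two_power hS (show (⟨g, hg⟩ : K) ∈ stabilizer K a from hga)
      (n := m) (Subtype.ext hm), rfl⟩
  have hUconj : ∀ g : G, g • a = a → ∀ u ∈ UG, g * u * g⁻¹ ∈ UG := by
    rintro g hg _ ⟨u, hu, rfl⟩
    obtain ⟨m, hm⟩ := hUp ⟨u, hu⟩
    refine hUmem (hconjK g u) ?_ ⟨m, ?_⟩
    · rw [Subgroup.coe_subtype, mul_smul, mul_smul, hfixinv hg,
        show ((u : K) : G) • a = a from hS.le hu, hg]
    · rw [Subgroup.coe_subtype, conj_pow, show ((u : K) : G) ^ 2 ^ m = 1 from congrArg (fun z : U => ((z : K) : G)) hm, mul_one,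
        mul_inv_cancel]
  -- no involution of `U <x>` fixes a second point
  have key : ∀ (f y x' : G) (k : ℕ), f = y * x' → y ∈ UG → x' ∈ Q → x' ^ 2 ^ k = 1 → f * f = 1 → f • b = b →
      f = 1 := by
    intro f y x' k hfeq hy hx' _ hff hfb
    by_cases hall : ∀ u ∈ U, ((u : K) : G) ∈ Q
    · obtain ⟨u, hu, rfl⟩ := hy
      refine h.single f ?_ ⟨1, by rw [pow_one, pow_two, hff]⟩ b hb hfb
      rw [hfeq]; exact mul_mem (hall u hu) hx'
    simp only [not_forall] at hall
    obtain ⟨w₀, hw₀, hw₀Q⟩ := hall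
    obtain ⟨yK, hyK, hyy⟩ := hy
    have hya : y • a = a := by rw [← hyy]; exact hS.le hyK
    have hfa : f • a = a := by rw [hfeq, mul_smul, h.le x' hx', hya]
    have hfinv : f⁻¹ = f := inv_eq_of_mul_eq_one_right hff
    set φ : K →* K := ((MulAut.conj f).toMonoidHom.comp K.subtype).codRestrict K fun g => hconjK f g with hφ
    have hφc : ∀ g : K, ((φ g : K) : G) = f * g * f⁻¹ := fun g => rfl
    have hφfix : ∀ {g : K} {p : Ω}, f • p = p → g • p = p → φ g • p = p := fun {g p} hfp hgp => by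
      show ((φ g : K) : G) • p = p
      rw [hφc, mul_smul, mul_smul, hfixinv hfp, show (g : G) • p = p from hgp, hfp]
    -- elements of the two-point stabiliser acting trivially modulo `Q`
    let P : K → Prop := fun c => c • a = a ∧ ∀ w ∈ U, ((w⁻¹ * c * w * c⁻¹ : K) : G) ∈ Q
    have hPmul : ∀ {c d : K}, P c → P d → P (c * d) := fun {c d} hc hd => by
      refine ⟨by rw [mul_smul, hd.1, hc.1], fun w hw => ?_⟩
      rw [show w⁻¹ * (c * d) * w * (c * d)⁻¹ = (w⁻¹ * c * w * c⁻¹) * (c * (w⁻¹ * d * w * d⁻¹) * c⁻¹) by group]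
      exact mul_mem (hc.2 w hw) (h.normal _ hc.1 _ (hd.2 w hw))
    have hP1 : ∀ c : K, P c → c • b = b → (∀ m : ℕ, c ^ m ≠ 1 → ∀ w ∈ U, c ^ m * w = w * c ^ m → (w : G) ∈ Q) →
        c = 1 := by
      intro c hPc hcb hfree
      by_contra hc1
      obtain ⟨p, hp, hpd⟩ := Nat.exists_prime_and_dvd (orderOf_eq_one_iff.not.2 hc1)
      obtain ⟨m, hm⟩ := hpd
      have hm0 : m ≠ 0 := fun h0 => (orderOf_pos c).ne' (by rw [hm, h0, mul_zero])
      set c' := c ^ m with hc'
      have hc'o : orderOf c' = p := by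
        rw [hc', orderOf_pow_of_dvd hm0 ⟨p, by rw [hm, mul_comm]⟩, hm, Nat.mul_div_cancel _ (by omega)]
      have hPc' : P c' := by
        have : ∀ j : ℕ, P (c ^ j) := by
          intro j
          induction j with
          | zero => exact ⟨by rw [pow_zero, one_smul], fun w _ => by simp⟩
          | succ j ih => rw [pow_succ]; exact hPmul ih hPc
        exact this m
      have hodd : Odd p := hc'o ▸ D_odd hS (pow_mem (mem_D.2 ⟨hPc.1, hta.symm ▸ hcb⟩) m)
      haveI := Fact.mk hp
      let X := {w : K // w ∈ U ∧ ((w₀⁻¹ * w : K) : G) ∈ Q}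
      have hstep : ∀ w : X, c' * w.1 * c'⁻¹ ∈ U ∧ ((w₀⁻¹ * (c' * w.1 * c'⁻¹) : K) : G) ∈ Q := fun w => by
        refine ⟨hS.conj_mem _ hPc'.1 _ w.2.1, ?_⟩
        rw [show w₀⁻¹ * (c' * w.1 * c'⁻¹) = (w₀⁻¹ * w.1) * (w.1⁻¹ * c' * w.1 * c'⁻¹) by group]
        exact mul_mem w.2.2 (hPc'.2 _ w.2.1)
      let σ : X → X := fun w => ⟨c' * w.1 * c'⁻¹, hstep w⟩
      have hσi : Function.Injective σ := fun w w' e =>
        Subtype.ext ((MulAut.conj c').injective (congrArg Subtype.val e :))
      let s : Equiv.Perm X := Equiv.ofBijective σ ⟨hσi, Finite.surjective_of_injective hσi⟩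
      have hspow : ∀ (j : ℕ) (w : X), ((s ^ j) w).1 = c' ^ j * w.1 * (c' ^ j)⁻¹ := by
        intro j
        induction j with
        | zero => intro w; simp
        | succ j ih =>
          intro w
          rw [pow_succ', Equiv.Perm.mul_apply, pow_succ']
          show c' * ((s ^ j) w).1 * c'⁻¹ = _
          rw [ih]; group
      have hs : s ^ p ^ 1 = 1 := Equiv.ext fun w => Subtype.ext (by
        rw [pow_one, hspow, ← hc'o, pow_orderOf_eq_one, one_mul, inv_one, mul_one]; rfl)
      let U0 : Subgroup K := U ⊓ Q.comap K.subtype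
      have hXe : Nat.card X = Nat.card U0 := Nat.card_congr
        { toFun := fun w => ⟨w₀⁻¹ * w.1, U.mul_mem (U.inv_mem hw₀) w.2.1, w.2.2⟩
          invFun := fun v => ⟨w₀ * v.1, U.mul_mem hw₀ v.2.1, by
            rw [inv_mul_cancel_left]; exact v.2.2⟩
          left_inv := fun w => Subtype.ext (mul_inv_cancel_left _ _)
          right_inv := fun v => Subtype.ext (inv_mul_cancel_left _ _) }
      haveI := Fintype.ofFinite X
      obtain ⟨j, hj⟩ := (hUp.to_le (inf_le_left : U0 ≤ U)).exists_card_eq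
      obtain ⟨w, hw⟩ := Equiv.Perm.exists_fixed_point_of_prime (p := p) (n := 1) (σ := s) (by
        rw [← Nat.card_eq_fintype_card, hXe, hj]
        intro hd
        have := (Nat.prime_dvd_prime_iff_eq hp Nat.prime_two).1 (hp.dvd_of_dvd_pow hd)
        rw [this] at hodd
        exact Nat.not_odd_iff_even.2 even_two hodd) hs
      have hwc : c' * w.1 = w.1 * c' := mul_inv_eq_iff_eq_mul.1 (congrArg Subtype.val hw : c' * w.1 * c'⁻¹ = w.1)
      have hc'1 : c' ≠ 1 := fun e => by rw [e, orderOf_one] at hc'o; exact hp.one_lt.ne hc'o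
      have hwQ := hfree m hc'1 w.1 w.2.1 hwc
      refine hw₀Q ?_
      rw [show w₀ = w.1 * (w₀⁻¹ * w.1)⁻¹ by group, Subgroup.coe_mul]
      exact mul_mem hwQ (inv_mem w.2.2)
    -- commutators of `f` with the two-point stabiliser
    have hPc : ∀ d : K, d • a = a → d • b = b → P (φ d * d⁻¹) ∧ (φ d * d⁻¹) • b = b := by
      intro d hda hdb
      have hda' : d⁻¹ • a = a := inv_smul_eq_iff.2 hda.symm
      refine ⟨⟨by rw [mul_smul, hda', hφfix hfa hda], fun w hw => ?_⟩,
        by rw [mul_smul, show d⁻¹ • b = b from inv_smul_eq_iff.2 hdb.symm, hφfix hfb hdb]⟩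
      set qc : G := y * (x' * (d : G) * x'⁻¹ * (d : G)⁻¹) * y⁻¹ with hqc
      have hqQ : qc ∈ Q := by
        refine h.normal y hya _ ?_
        rw [show x' * (d : G) * x'⁻¹ * (d : G)⁻¹ = x' * ((d : G) * x'⁻¹ * (d : G)⁻¹) by group]
        exact mul_mem hx' (h.normal _ hda _ (inv_mem hx'))
      set u : K := yK * (d * yK⁻¹ * d⁻¹) with hu
      have huU : u ∈ U := mul_mem hyK (hS.conj_mem d hda _ (inv_mem hyK))
      have hcf : ((φ d * d⁻¹ : K) : G) = qc * (u : G) := by
        rw [Subgroup.coe_mul, hφc, Subgroup.coe_inv, hfeq, hqc, hu]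
        simp only [Subgroup.coe_mul, Subgroup.coe_inv, show (yK : G) = y from hyy]
        group
      have hcomm : ((w⁻¹ * u * w * u⁻¹ : K) : G) ∈ Q := by
        refine hZQ _ ?_
        simpa using comm_mem_involutionGroup hS h2 hUp hw (inv_mem huU)
      have hwa : (w : G)⁻¹ • a = a := hfixinv (hS.le hw)
      have h1 : (w : G)⁻¹ * qc * (w : G) ∈ Q := by
        have := h.normal _ hwa _ hqQ
        rwa [inv_inv] at this
      have h3 := mul_mem (mul_mem h1 hcomm) (inv_mem hqQ)
      simp only [Subgroup.coe_mul, Subgroup.coe_inv] at h3 hcf ⊢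
      rw [hcf]
      convert h3 using 1
      group
    obtain ⟨C, hC, -, -⟩ := exists_cyclic hS h2
    have hCmem : ∀ z, z ∈ C ↔ z ∈ Cfsg.invertedBy (stabilizer K a ⊓ stabilizer K (t • a)) t :=
      fun z => by rw [← hC]; rfl
    -- the inverted elements are fixed
    have hfK' : ∀ d ∈ Cfsg.invertedBy (stabilizer K a ⊓ stabilizer K (t • a)) t, φ d = d := by
      intro d hd
      have hda := (mem_D.1 hd.1).1
      have hdb : d • b = b := hta ▸ (mem_D.1 hd.1).2
      obtain ⟨hP, hcb⟩ := hPc d hda hdb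
      refine mul_inv_eq_one.1 (hP1 _ hP hcb fun m hm w hw hcw => ?_)
      have ht' : φ t • a = b := by
        show ((φ t : K) : G) • a = b
        rw [hφc, mul_smul, mul_smul, hfixinv hfa, show (t : G) • a = b from hta, hfb]
      have hS' := hset (φ t) (by rw [← map_mul, hc.sq htD, map_one]) (ht' ▸ hb)
      have hφd : φ d ∈ Cfsg.invertedBy (stabilizer K a ⊓ stabilizer K (φ t • a)) (φ t) := by
        refine ⟨mem_D.2 ⟨hφfix hfa hda, ?_⟩, by rw [← map_inv, ← map_mul, ← map_mul, hd.2, map_inv]⟩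
        rw [ht']
        exact hφfix hfb hdb
      have hmem : φ d * d⁻¹ ∈ C :=
        mul_mem ((hCmem _).2 (inverted_congr hS' h2 (hc.sq htD) (hta.trans ht'.symm) hφd))
          (inv_mem ((hCmem _).2 hd))
      have hK' := (hCmem _).1 (pow_mem hmem m)
      have : w ∈ U ⊓ Subgroup.centralizer {(φ d * d⁻¹) ^ m} :=
        ⟨hw, mem_centralizer_singleton_iff.2 hcw.symm⟩
      rw [fixed_point_free hS hK' hm, mem_bot] at this
      rw [this]; exact one_mem _
    -- so are the involutions at the point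
    have hJ : ∀ {z : K}, z ∈ Cfsg.involutionsIn (stabilizer K a : Set K) → φ z ∈
        Cfsg.involutionsIn (stabilizer K a : Set K) := fun {z} hz =>
      ⟨hφfix hfa hz.1, fun e => hz.2.1 (Subtype.ext ((MulAut.conj f).injective (by
        have := congrArg Subtype.val e
        rw [hφc] at this
        simpa using this))), by rw [← map_mul, hz.2.2, map_one]⟩
    have hφφ : ∀ z, φ (φ z) = z := fun z => Subtype.ext (by
      rw [hφc, hφc, hfinv, show f * (f * (z : G) * f) * f = (f * f) * z * (f * f) by group, hff, one_mul, mul_one])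
    have hJfix : ∀ z ∈ Cfsg.involutionsIn (stabilizer K a : Set K), φ z = z := by
      obtain ⟨⟨s, hs⟩, hse⟩ := CfsgLib.RankOneInter.TIAuto.exists_fixed_of_odd
        (α := Cfsg.involutionsIn (stabilizer K a : Set K)) (CfsgLib.RankOneInter.TIAuto.odd_card_J hS h2)
        (fun z => ⟨φ z, hJ z.2⟩) (fun z => Subtype.ext (hφφ z))
      have hse' : φ s = s := congrArg Subtype.val hse
      intro z hz
      obtain ⟨k', ⟨hk', rfl⟩, -⟩ := exists_unique_K hS hs hz
      rw [map_mul, map_mul, map_inv, hse', hfK' k' hk']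
    -- and the two-point stabiliser
    have hD : ∀ d ∈ stabilizer K a ⊓ stabilizer K (t • a), φ d = d := by
      intro d hd
      rcases CfsgLib.RankOneInter.TIAuto.shape_cases hS h2 with hq | ⟨hV, -⟩ | ⟨-, -, hW⟩
      · exfalso
        have hle : involutionGroup hS h2 ≤ U := by
          rintro z (rfl | hz)
          · exact one_mem _
          · exact CfsgLib.Lie.RankOne.J_mem_Q hS hz
        refine hw₀Q (hZQ _ ((Subgroup.eq_of_le_of_card_ge hle ?_).symm ▸ hw₀))
        rw [card_involutionGroup hS h2, hq]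
      · obtain ⟨v, hv, k', hk', rfl⟩ := exists_split hS hd
        rw [hV, mem_bot] at hv
        rw [hv, one_mul]
        exact hfK' k' hk'
      · have hda := (mem_D.1 hd).1
        have hdb : d • b = b := hta ▸ (mem_D.1 hd).2
        obtain ⟨hP, hcb⟩ := hPc d hda hdb
        refine mul_inv_eq_one.1 (hP1 _ hP hcb fun m hm w hw hcw => ?_)
        have hcW : φ d * d⁻¹ ∈ Wg a t := by
          refine mem_Wg.2 ⟨mem_D.2 ⟨hP.1, hta.symm ▸ hcb⟩, fun z hz => ?_⟩
          have hz' : d⁻¹ * z * d ∈ Cfsg.involutionsIn (stabilizer K a : Set K) := by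
            have := conj_mem_J hS hz (inv_mem hda : d⁻¹ ∈ stabilizer K a)
            rwa [inv_inv] at this
          have h1 := hJfix _ hz'
          rw [map_mul, map_mul, map_inv, hJfix z hz] at h1
          calc φ d * d⁻¹ * z = φ d * (d⁻¹ * z * d) * d⁻¹ := by group
            _ = φ d * ((φ d)⁻¹ * z * φ d) * d⁻¹ := by rw [h1]
            _ = z * (φ d * d⁻¹) := by group
        rcases hW _ (pow_mem hcW m) hm w hw hcw with h1 | h1
        · rw [h1]; exact one_mem _
        · exact hJQ w h1.1 h1.2.1 h1.2.2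
    have hauto := CfsgLib.RankOneInter.TIAuto.auto_eq_one hS h2 φ hφφ (fun p => f • p)
      (fun g p => by
        show f • (g • p) = ((φ g : K) : G) • (f • p)
        rw [hφc, ← mul_smul, inv_mul_cancel_right, mul_smul]
        rfl) hfa (by rw [hta]; exact hfb) hD
    refine hf f fun p => ?_
    obtain ⟨e, he, hep⟩ := h.crit.exists_mem p
    refine h.crit.fix_of_commute' he ?_ hep
    have := congrArg Subtype.val (hauto ⟨e, subset_closure he⟩)
    rw [hφc] at this
    exact mul_inv_eq_iff_eq_mul.1 this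
  -- reduce to the key fact
  obtain ⟨⟨u, hu⟩, hue, -⟩ := existsUnique_smul hS (x • b) b
    (fun e => hb (smul_left_cancel x (e.trans (h.le x hx).symm))) hb
  have hxN : Subgroup.zpowers x ≤ Subgroup.normalizer (UG : Set G) := by
    refine Subgroup.zpowers_le.2 (mem_normalizer_iff.2 fun g => ⟨hUconj x (h.le x hx) g, fun hg => ?_⟩)
    have := hUconj x⁻¹ (hfixinv (h.le x hx)) _ hg
    simpa [mul_assoc] using this
  have hxp : IsPGroup 2 (Subgroup.zpowers x) := by
    obtain ⟨k, -, hk⟩ := (Nat.dvd_prime_pow Nat.prime_two).1 (orderOf_dvd_of_pow_eq_one hxn)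
    exact IsPGroup.of_card (n := k) (by rw [Nat.card_zpowers, hk])
  have hWp := hxp.to_sup_of_normal_right' hUGp hxN
  set f := (u : G) * x with hfdef
  have hfW : f ∈ Subgroup.zpowers x ⊔ UG := mul_mem (mem_sup_right ⟨u, hu, rfl⟩) (mem_sup_left (mem_zpowers x))
  have hfb : f • b = b := by rw [hfdef, mul_smul]; exact hue
  by_cases hf1 : f = 1
  · rw [show x = (u : G)⁻¹ from eq_inv_of_mul_eq_one_right hf1]
    exact inv_mem (u : K).2
  exfalso
  obtain ⟨j, hj⟩ := IsPGroup.iff_orderOf.1 hWp ⟨f, hfW⟩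
  rw [Subgroup.orderOf_mk] at hj
  cases j with
  | zero => exact hf1 (orderOf_eq_one_iff.1 hj)
  | succ j =>
    set g := f ^ 2 ^ j with hg
    have hgW : g ∈ ((Subgroup.zpowers x ⊔ UG : Subgroup G) : Set G) := pow_mem hfW _
    rw [Subgroup.coe_mul_of_left_le_normalizer_right _ _ hxN] at hgW
    obtain ⟨x', hx', y, hy, hxy⟩ := hgW
    have hxy' : x' * y = g := hxy
    have hx'Q : x' ∈ Q := Subgroup.zpowers_le.2 hx hx'
    obtain ⟨k, hk⟩ := hxp ⟨x', hx'⟩
    refine absurd (key g (x' * y * x'⁻¹) x' k (by rw [← hxy']; group) (hUconj x' (h.le x' hx'Q) y hy) hx'Q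
      (congrArg Subtype.val hk) ?_ (pow_mem (show f ∈ stabilizer G b from hfb) _)) ?_
    · rw [hg, ← pow_add, ← two_mul, ← pow_succ', ← hj, pow_orderOf_eq_one]
    · refine pow_ne_one_of_lt_orderOf (pow_ne_zero _ two_ne_zero) ?_
      rw [hj, pow_succ]
      have := Nat.two_pow_pos j
      omega

end Tight

end CfsgLib.AschCrit
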