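import Cfsg.Agent.Lib.Invol.AschCrit.Dep.Tight
import Cfsg.Agent.Lib.Invol.AschCrit.CentModel
import Cfsg.Agent.Lib.Invol.AschCrit.CentLift
import Cfsg.Agent.Lib.ZStar.Main

/-!
Owner: helper18. S1911 from Aschbacher's criterion: the setting and the rank one case.

* `Tight`: members at the base point lie in `Q`, two-elements of `Q` fix only the base point.
* `Tight.crit_closure`, `Tight.noMulti_closure`: the group generated by the members.
* `Tight.isolated_case`: if a member is isolated, no involution of `<Q^G>` fixes two points.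
-/

set_option autoImplicit false
set_option linter.style.haveILetI false
set_option linter.unusedSectionVars false

namespace CfsgLib.AschCrit

open Subgroup MulAction

universe u

variable {G : Type u} [Group G] [Finite G] {Ω : Type u} [MulAction G Ω]

/-- A normal subgroup `Q` of the stabiliser of `a` containing the members at `a`. -/
structure Tight (D : Set G) (a : Ω) (Q : Subgroup G) : Prop where
  crit : Crit Ω D
  mem : ∀ d ∈ D, d • a = a → d ∈ Q
  le : ∀ x ∈ Q, x • a = a
  normal : ∀ g : G, g • a = a → ∀ x ∈ Q, g * x * g⁻¹ ∈ Q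
  single : ∀ x ∈ Q, (∃ n : ℕ, x ^ 2 ^ n = 1) → ∀ b : Ω, b ≠ a → x • b = b → x = 1

/-- The union of the conjugates of `Q` generates this group. -/
abbrev qClosure (Q : Subgroup G) : Subgroup G := Subgroup.normalClosure (Q : Set G)

variable {D : Set G} {a : Ω} {Q : Subgroup G}

/-- A coset of an element of order a power of two has such a representative in its own powers. -/
theorem exists_two_rep {X Y : Type*} [Group X] [Group Y] [Finite X] [Finite Y] (f : X →* Y) {x : X} {n : ℕ}
    (hx : f x ^ 2 ^ n = 1) : ∃ N : ℕ, f (x ^ N) = f x ∧ ∃ m : ℕ, (x ^ N) ^ 2 ^ m = 1 := by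
  obtain ⟨r, m, hm, hrm⟩ := Nat.exists_eq_two_pow_mul_odd (orderOf_pos x).ne'
  obtain ⟨N, hN1, hN2⟩ := exists_pow_lift f x (A := m) (B := 2 ^ r) (dvd_of_eq (hrm.trans (mul_comm _ _)))
    (Nat.Coprime.of_dvd_right (orderOf_dvd_of_pow_eq_one hx) ((Nat.coprime_two_right.2 hm).pow_right n))
  exact ⟨N, hN1, r, orderOf_dvd_iff_pow_eq_one.1 hN2⟩

namespace Tight

variable (h : Tight D a Q)
include h

/-- `<D>` as a group on the points satisfies the hypotheses. -/
theorem crit_closure (hf : Faithful G Ω) : Crit Ω (memsIn D (Subgroup.closure D)) := by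
  classical
  set K := Subgroup.closure D with hK
  obtain ⟨b, hb⟩ := h.crit.exists_ne a
  obtain ⟨d₀, hd₀, hd₀a⟩ := h.crit.exists_mem a
  obtain ⟨e₀, he₀, he₀b⟩ := h.crit.exists_mem b
  have hi := h.crit.crit_sub hf K hd₀ he₀ (subset_closure hd₀) (subset_closure he₀) hd₀a he₀b (Ne.symm hb)
  have hall : ∀ x : Ω, x ∈ subPoints h.crit K := fun x => by
    obtain ⟨d, hd, hdx⟩ := h.crit.exists_mem x
    exact ⟨d, hd, subset_closure hd, hdx⟩
  exact
    { trans := fun x y => (hi.trans ⟨x, hall x⟩ ⟨y, hall y⟩).imp fun g hg => congrArg Subtype.val hg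
      exists_ne := h.crit.exists_ne
      inv := hi.inv
      conj := hi.conj
      one_class := hi.one_class
      fix_exists := fun d hd => by
        obtain ⟨x, hx⟩ := hi.fix_exists d hd
        exact ⟨x, congrArg Subtype.val hx⟩
      fix_unique := fun d hd x y hx hy => h.crit.fix_unique d hd x y hx hy
      central := hi.central
      cent := fun d hd e he hne hc g hg x hx =>
        congrArg Subtype.val (hi.cent d hd e he hne hc g hg ⟨x, hall x⟩ (Subtype.ext hx)) }

/-- No involution of `<D>` fixes two points. -/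
theorem noMulti_closure (hmain : Main.{u}) (hf : Faithful G Ω) : NoMulti (Subgroup.closure D) Ω :=
  hmain _ Ω _ (h.crit_closure hf) (fun g hg => Subtype.ext (hf g fun x => hg x))
    (Subgroup.closure_closure_coe_preimage (k := D))

/-- An element of `<D>` times one of `Q` reaches every element of `<Q^G>`. -/
theorem qClosure_le : ∀ g ∈ qClosure Q, ∃ k ∈ Subgroup.closure D, ∃ q ∈ Q, g = k * q := by
  set K := Subgroup.closure D with hK
  haveI hKn : K.Normal := by
    refine ⟨fun x hx g => ?_⟩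
    have hle : K ≤ K.comap (MulAut.conj g).toMonoidHom :=
      (closure_le _).2 fun d hd => subset_closure (h.crit.conj d hd g)
    exact hle hx
  have htr : ∀ x : Ω, ∃ k ∈ K, k • a = x := fun x => by
    by_cases hx : x = a
    · exact ⟨1, one_mem _, by rw [one_smul, hx]⟩
    obtain ⟨d, hd, hda⟩ := h.crit.exists_mem a
    obtain ⟨e, he, hex⟩ := h.crit.exists_mem x
    obtain ⟨t, -, htK, -, hfix⟩ := h.crit.exists_swapper_in hd he (subset_closure hd) (subset_closure he) hda
      (fun e1 => hx (h.crit.fix_unique e he x a hex e1))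
    exact ⟨t, htK, h.crit.fix_unique e he _ _ hfix hex⟩
  have hle : qClosure Q ≤ K ⊔ Q := by
    show Subgroup.closure (Group.conjugatesOfSet (Q : Set G)) ≤ K ⊔ Q
    refine (closure_le _).2 fun y hy => ?_
    obtain ⟨x, hx, hc⟩ := Group.mem_conjugatesOfSet_iff.1 hy
    obtain ⟨g, rfl⟩ := isConj_iff.1 hc
    obtain ⟨k, hk, hka⟩ := htr (g • a)
    have hm : (k⁻¹ * g) • a = a := by rw [mul_smul, inv_smul_eq_iff, hka]
    have hq : (k⁻¹ * g) * x * (k⁻¹ * g)⁻¹ ∈ Q := h.normal _ hm x hx
    rw [show g * x * g⁻¹ = k * ((k⁻¹ * g) * x * (k⁻¹ * g)⁻¹) * k⁻¹ by group]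
    exact mul_mem (mul_mem (mem_sup_left hk) (mem_sup_right hq)) (inv_mem (mem_sup_left hk))
  intro g hg
  have hg' := hle hg
  rw [← SetLike.mem_coe, Subgroup.normal_mul] at hg'
  obtain ⟨k, hk, q, hq, rfl⟩ := hg'
  exact ⟨k, hk, q, hq, rfl⟩

/-- If a member commutes with no other conjugate, no involution of `<Q^G>` fixes two points. -/
theorem isolated_case (hiso : ∀ d ∈ D, ∀ e ∈ D, Commute d e → d = e) {v : G} (hv : v ∈ qClosure Q)
    (hv2 : orderOf v = 2) {b : Ω} (hb : b ≠ a) (hva : v • a = a) : v • b ≠ b := by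
  classical
  intro hvb
  obtain ⟨z, hz, hza⟩ := h.crit.exists_mem a
  have hiz : Cfsg.IsIsolatedInvolution z :=
    ⟨h.crit.inv z hz, fun g hg => (hiso z hz _ (h.crit.conj z hz g) hg).symm⟩
  set O := Cfsg.oddCore G with hO
  have hOodd : Odd (Nat.card O) := CfsgLib.ZStar.odd_card_oddCore G
  -- every point stabiliser reaches the group modulo the odd core
  have hcov : ∀ g : G, ∃ w ∈ O, ∃ m : G, m • a = a ∧ g = w * m := by
    intro g
    have h1 : z * g * z⁻¹ * g⁻¹ ∈ O := CfsgLib.ZStar.mem_oddCore_of_isolated hiz g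
    have h2 : (g * z * g⁻¹) * z ∈ O := by
      have := inv_mem h1
      simpa [mul_assoc, inv_eq_of_mul_eq_one_right (h.crit.sq hz)] using this
    have hgo : orderOf (g * z * g⁻¹) = 2 := by rw [CfsgLib.Signalizer.orderOf_conj]; exact hiz.1
    obtain ⟨w, hw, hwz⟩ := CfsgLib.Bender.exists_conj_of_mul_mem hOodd hgo hiz.1 h2
    refine ⟨w⁻¹, inv_mem hw, w * g, h.crit.fix_of_commute' hz ?_ hza, by group⟩
    show w * g * z = z * (w * g)
    conv_rhs => rw [← hwz]
    group
  have hle : qClosure Q ≤ O ⊔ Q := by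
    show Subgroup.closure (Group.conjugatesOfSet (Q : Set G)) ≤ O ⊔ Q
    refine (closure_le _).2 fun y hy => ?_
    obtain ⟨x, hx, hc⟩ := Group.mem_conjugatesOfSet_iff.1 hy
    obtain ⟨g, rfl⟩ := isConj_iff.1 hc
    obtain ⟨w, hw, m, hm, rfl⟩ := hcov g
    rw [show w * m * x * (w * m)⁻¹ = w * (m * x * m⁻¹) * w⁻¹ by group]
    exact mul_mem (mul_mem (mem_sup_left hw) (mem_sup_right (h.normal m hm x hx))) (inv_mem (mem_sup_left hw))
  have hv' := hle hv
  rw [← SetLike.mem_coe, Subgroup.normal_mul] at hv'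
  obtain ⟨w, hw, q, hq, rfl⟩ := hv'
  dsimp only at hv2 hva hvb
  -- an involution of `Q` in the same coset
  have himg : QuotientGroup.mk' O q ^ 2 ^ 1 = 1 := by
    have h1 := congrArg (QuotientGroup.mk' O) (CfsgLib.Signalizer.involution_sq hv2)
    rw [map_mul, map_mul, show QuotientGroup.mk' O w = 1 from (QuotientGroup.eq_one_iff w).2 hw, one_mul,
      map_one] at h1
    rw [pow_one, pow_two, h1]
  obtain ⟨N, hN, m, hm⟩ := exists_two_rep (QuotientGroup.mk' O) himg
  rw [pow_one] at himg
  rw [pow_two] at himg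
  set q' := q ^ N with hq'
  have hcop : ∀ x : G, x ∈ O → x ^ 2 ^ m = 1 → x = 1 := fun x hxO hx =>
    orderOf_eq_one_iff.1 (Nat.eq_one_of_dvd_coprimes ((Nat.coprime_two_left.2 hOodd).pow_left m)
      (orderOf_dvd_of_pow_eq_one hx) (O.orderOf_dvd_natCard hxO))
  have hq'2 : q' * q' = 1 := by
    refine hcop _ ((QuotientGroup.eq_one_iff _).1 ?_) ?_
    · show QuotientGroup.mk' O (q' * q') = 1
      rw [map_mul, hN, himg]
    · rw [← pow_two, ← pow_mul, mul_comm, pow_mul, hm, one_pow]
  have hwq : (w * q) * q' ∈ O := by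
    refine (QuotientGroup.eq_one_iff _).1 ?_
    show QuotientGroup.mk' O (w * q * q') = 1
    rw [map_mul, map_mul, hN, show QuotientGroup.mk' O w = 1 from (QuotientGroup.eq_one_iff w).2 hw, one_mul,
      himg]
  have hq'1 : q' ≠ 1 := fun e => by
    rw [e, mul_one] at hwq
    have h1 : w * q = 1 := orderOf_eq_one_iff.1 (Nat.eq_one_of_dvd_coprimes (Nat.coprime_two_left.2 hOodd)
      (dvd_of_eq hv2) (O.orderOf_dvd_natCard hwq))
    rw [h1, orderOf_one] at hv2
    omega
  have hq'o : orderOf q' = 2 := orderOf_eq_prime (by rw [pow_two, hq'2]) hq'1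
  obtain ⟨c, -, hc⟩ := CfsgLib.Bender.exists_conj_of_mul_mem hOodd hv2 hq'o hwq
  have hfix : ∀ x : Ω, (w * q) • x = x → c • x = a := fun x hx => by
    by_contra hne
    refine hq'1 (h.single q' (pow_mem hq N) ⟨m, hm⟩ _ hne ?_)
    rw [← hc, mul_smul, mul_smul, inv_smul_smul, hx]
  exact hb (smul_left_cancel c ((hfix b hvb).trans (hfix a hva).symm))

end Tight

end CfsgLib.AschCrit
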