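import Cfsg.Agent.Lib.Invol.AschCrit.Dep.TightKernel

/-!
Owner: helper18. S1911 from Aschbacher's criterion: the kernel of the action, and the conclusion.

* `Tight.image`: the setting for the permutation group.
* `Tight.noInvolution`: no involution of `<Q^G>` fixes two points.
-/

set_option autoImplicit false
set_option linter.style.haveILetI false
set_option linter.unusedSectionVars false

namespace CfsgLib.AschCrit

open Subgroup MulAction CfsgLib.Lie.RankOne CfsgLib.Lie.RankOneClass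
open CfsgLib.OddTransitive.RankOne (involutionGroup exists_cyclic)
open scoped commutatorElement

universe u

variable {G : Type u} [Group G] [Finite G] {Ω : Type u} [MulAction G Ω] {D : Set G} {a : Ω} {Q : Subgroup G}

namespace Tight

variable (h : Tight D a Q)
include h

/-- The setting for the permutation group. -/
theorem image [Finite Ω] : Tight ((MulAction.toPermHom G Ω).rangeRestrict '' D) a
    (Q.map (MulAction.toPermHom G Ω).rangeRestrict) where
  crit := h.crit.image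
  mem := by rintro _ ⟨d, hd, rfl⟩ hda; exact mem_map_of_mem _ (h.mem d hd hda)
  le := by rintro _ ⟨x, hx, rfl⟩; exact h.le x hx
  normal := by
    rintro g hg _ ⟨x, hx, rfl⟩
    obtain ⟨g₀, rfl⟩ := (MulAction.toPermHom G Ω).rangeRestrict_surjective g
    exact ⟨g₀ * x * g₀⁻¹, h.normal g₀ hg x hx, by simp⟩
  single := by
    rintro _ ⟨x, hx, rfl⟩ ⟨n, hn⟩ b hb hxb
    obtain ⟨N, hN, m, hm⟩ := exists_two_rep _ hn
    rw [← hN] at hxb ⊢
    rw [h.single _ (pow_mem hx N) ⟨m, hm⟩ b hb hxb, map_one]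

/-- **No involution of `<Q^G>` fixes two points.** -/
theorem noInvolution (hmain : Main.{u}) {v : G} (hv : v ∈ qClosure Q) (hv2 : orderOf v = 2) {b : Ω}
    (hb : b ≠ a) (hva : v • a = a) : v • b ≠ b := by
  classical
  intro hvb
  haveI := Fact.mk Nat.prime_two
  haveI := h.crit.finite_points
  set ρ := (MulAction.toPermHom G Ω).rangeRestrict with hρ
  have hρs : Function.Surjective ρ := (MulAction.toPermHom G Ω).rangeRestrict_surjective
  have hf : Faithful (MulAction.toPermHom G Ω).range Ω := h.crit.faithful_image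
  have hi := h.image
  set K := Subgroup.closure (ρ '' D) with hK
  have hn := hi.noMulti_closure hmain hf
  have hKmem : ∀ d ∈ D, ρ d ∈ K := fun d hd => subset_closure ⟨d, hd, rfl⟩
  by_cases hr : RankOne K
  · refine h.isolated_case (fun d hd e he hde => ?_) hv hv2 hb hva hvb
    have hcK := hi.crit_closure hf
    have himg : ρ d = ρ e := congrArg Subtype.val (hr ⟨ρ d, hKmem d hd⟩ ⟨ρ e, hKmem e he⟩
      (hcK.inv _ ⟨d, hd, rfl⟩) (hcK.inv _ ⟨e, he, rfl⟩) (Subtype.ext (hde.map ρ).eq))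
    by_contra hne
    obtain ⟨x, hx⟩ := h.crit.fix_exists d hd
    obtain ⟨y, hy⟩ := h.crit.exists_ne x
    refine hy (h.crit.pair_single hd he hne hde hx ?_)
    show (ρ (d * e)) • y = y
    rw [map_mul, ← himg, ← map_mul, h.crit.sq hd, map_one, one_smul]
  obtain ⟨hsimp, h2, U, hUp, hset, hsw⟩ := hi.exists_bender hmain hf hr
  haveI := hsimp
  have hfK : Faithful K Ω := fun g hg => Subtype.ext (hf g fun x => hg x)
  haveI : FaithfulSMul K Ω := faithfulSMul_iff.2 hfK
  have hcK := hi.crit_closure hf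
  obtain ⟨b₁, hb₁⟩ := h.crit.exists_ne a
  obtain ⟨t, htD, hta⟩ := hsw b₁ hb₁
  have hS := hset t (hcK.sq htD) (hta ▸ hb₁)
  have hUa : ∀ x ∈ U, x • a = a := fun x hx => hS.le hx
  have hU2 : ∀ {x : K}, x • a = a → (∃ m : ℕ, x ^ 2 ^ m = 1) → x ∈ U := fun {x} hx ⟨m, hm⟩ =>
    CfsgLib.RankOneInter.TIAuto.mem_Q_of_two_power hS hx hm
  have htwo : ∀ q ∈ Q, (∃ m : ℕ, q ^ 2 ^ m = 1) → ρ q ∈ K := fun q hq ⟨m, hm⟩ =>
    hi.two_mem_closure hmain hf hr (mem_map_of_mem ρ hq) (n := m) (by rw [← map_pow, hm, map_one])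
  -- the kernel and its odd core
  set N := ρ.ker with hN
  have hNfix : ∀ n ∈ N, ∀ x : Ω, n • x = x := fun n hn x => by
    show (ρ n) • x = x
    rw [MonoidHom.mem_ker.1 hn, one_smul]
  haveI : (Cfsg.oddCore N).Characteristic := CfsgLib.Core.characteristic_pPrimeCore 2 N
  set O := (Cfsg.oddCore N).map N.subtype with hO
  haveI hOn : O.Normal := inferInstance
  have hON : O ≤ N := map_subtype_le _
  have hOodd : Odd (Nat.card O) :=
    (CfsgLib.ZStar.odd_card_oddCore N).of_dvd_nat (Subgroup.card_map_dvd _ _)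
  have hQN : ∀ q ∈ Q, q ∈ N → q ∈ O := by
    intro q hq hqN
    set B := Q.subgroupOf N with hB
    have hBn : B.Normal := ⟨fun x hx g => by
      rw [hB, Subgroup.mem_subgroupOf] at hx ⊢
      exact h.normal _ (hNfix g g.2 a) _ hx⟩
    have hBo : Odd (Nat.card B) := by
      rw [← Nat.not_even_iff_odd]
      intro he
      obtain ⟨w, hw⟩ := exists_prime_orderOf_dvd_card' (G := B) 2 he.two_dvd
      have h1 : ((w : N) : G) = 1 := h.single _ (Subgroup.mem_subgroupOf.1 w.2) ⟨1, by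
        rw [pow_one, ← Subgroup.coe_pow, ← Subgroup.coe_pow, ← hw, pow_orderOf_eq_one]; rfl⟩ b hb
          (hNfix _ (w : N).2 b)
      rw [← Subgroup.orderOf_coe, ← Subgroup.orderOf_coe, h1, orderOf_one] at hw
      omega
    exact ⟨⟨q, hqN⟩, CfsgLib.ZStar.le_oddCore hBn hBo (Subgroup.mem_subgroupOf.2 hq), rfl⟩
  set π := QuotientGroup.mk' O with hπ
  have hπs : Function.Surjective π := QuotientGroup.mk'_surjective O
  set ψ := QuotientGroup.lift O ρ hON with hψ
  have hψπ : ∀ g, ψ (π g) = ρ g := fun g => rfl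
  have hπeq : ∀ q ∈ Q, ∀ q' ∈ Q, ρ q = ρ q' → π q = π q' := fun q hq q' hq' e => by
    refine QuotientGroup.eq.2 (hQN _ (mul_mem (inv_mem hq) hq') (MonoidHom.mem_ker.2 ?_))
    rw [map_mul, map_inv, e, inv_mul_cancel]
  -- the cover
  set H := (Subgroup.closure D).map π with hH
  have hDn : (Subgroup.closure D).Normal := ⟨fun x hx g =>
    ((closure_le _).2 fun d hd => subset_closure (h.crit.conj d hd g) :
      Subgroup.closure D ≤ (Subgroup.closure D).comap (MulAut.conj g).toMonoidHom) hx⟩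
  haveI hHn : H.Normal := hDn.map π hπs
  set C := H ⊓ ψ.ker with hC
  have hcent : ∀ c ∈ ψ.ker, ∀ x ∈ H, c * x = x * c := by
    intro c hc x hx
    obtain ⟨n, rfl⟩ := hπs c
    have hnN : n ∈ N := hc
    suffices hsuf : ∀ d ∈ D, π n * π d = π d * π n by
      obtain ⟨k, hk, rfl⟩ := hx
      refine Subgroup.closure_induction (p := fun k _ => π n * π k = π k * π n) hsuf ?_ ?_ ?_ hk
      · rw [map_one, mul_one, one_mul]
      · intro y z _ _ hy hz
        rw [map_mul, ← mul_assoc, hy, mul_assoc, hz, mul_assoc]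
      · intro y _ hy
        rw [map_inv]; exact (Commute.inv_right (show Commute (π n) (π y) from hy)).eq
    intro d hd
    obtain ⟨x₀, hx₀⟩ := h.crit.fix_exists d hd
    obtain ⟨g, hg⟩ := h.crit.trans a x₀
    have hd' : g⁻¹ * d * g ∈ Q := h.mem _ (h.crit.conjBack hd g) (by
      rw [mul_smul, mul_smul, hg, hx₀, ← hg, inv_smul_smul])
    have hn' : g⁻¹ * n * g ∈ N := by
      have := (inferInstance : N.Normal).conj_mem n hnN g⁻¹
      rwa [inv_inv] at this
    have hqm : π (g⁻¹ * n * g * (g⁻¹ * d * g)) = π (g⁻¹ * d * g * (g⁻¹ * n * g)) := by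
      refine QuotientGroup.eq.2 ?_
      have hmem : (g⁻¹ * n * g * (g⁻¹ * d * g))⁻¹ * (g⁻¹ * d * g * (g⁻¹ * n * g)) ∈ Q := by
        rw [show (g⁻¹ * n * g * (g⁻¹ * d * g))⁻¹ * (g⁻¹ * d * g * (g⁻¹ * n * g)) =
          (g⁻¹ * d * g)⁻¹ * ((g⁻¹ * n * g)⁻¹ * (g⁻¹ * d * g) * (g⁻¹ * n * g)⁻¹⁻¹) by group]
        exact mul_mem (inv_mem hd') (h.normal _ (hNfix _ (inv_mem hn') a) _ hd')
      refine hQN _ hmem (MonoidHom.mem_ker.2 ?_)
      have hm1 : ρ (g⁻¹ * n * g) = 1 := hn'
      rw [map_mul, map_inv, map_mul ρ _ (g⁻¹ * d * g), map_mul ρ (g⁻¹ * d * g) (g⁻¹ * n * g), hm1, one_mul, mul_one,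
        inv_mul_cancel]
    have h1 := congrArg (fun z => π g * z * (π g)⁻¹) hqm
    simp only [← map_inv, ← map_mul] at h1
    rw [show g * (g⁻¹ * n * g * (g⁻¹ * d * g)) * g⁻¹ = n * d by group,
      show g * (g⁻¹ * d * g * (g⁻¹ * n * g)) * g⁻¹ = d * n by group, map_mul, map_mul] at h1
    exact h1
  have hCc : ∀ c ∈ C, ∀ c' ∈ C, c * c' = c' * c := fun c hc c' hc' => hcent c hc.2 c' hc'.1
  have hC2 : IsPGroup 2 C := by
    rw [IsPGroup.iff_orderOf]
    intro c
    obtain ⟨r, m, hm, hrm⟩ := Nat.exists_eq_two_pow_mul_odd (orderOf_pos c).ne'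
    refine ⟨r, ?_⟩
    -- the odd part is in the odd core of the kernel
    haveI : (Cfsg.oddCore C).Characteristic := CfsgLib.Core.characteristic_pPrimeCore 2 C
    haveI : C.Normal := inferInstance
    set O' := ((Cfsg.oddCore C).map C.subtype).comap π with hO'
    have hO'n : O'.Normal := inferInstance
    have hO'N : O' ≤ N := fun g hg => by
      have : π g ∈ ψ.ker := (map_subtype_le _ hg : π g ∈ C).2
      exact this
    have hO'odd : Odd (Nat.card O') := by
      rw [hO', CfsgLib.Core.card_comap_mk']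
      exact hOodd.mul ((CfsgLib.ZStar.odd_card_oddCore C).of_dvd_nat (Subgroup.card_map_dvd _ _))
    have hle : O' ≤ O := fun g hg => by
      refine ⟨⟨g, hO'N hg⟩, CfsgLib.ZStar.le_oddCore (hO'n.subgroupOf N) ?_ (Subgroup.mem_subgroupOf.2 hg), rfl⟩
      rwa [Nat.card_congr (Subgroup.subgroupOfEquivOfLe hO'N).toEquiv]
    have hcn : (zpowers (c ^ 2 ^ r)).Normal := ⟨fun x hx g => by
      have e : g * x * g⁻¹ = x := by
        rw [show g * x = x * g from Subtype.ext (hCc _ g.2 _ x.2), mul_inv_cancel_right]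
      rwa [e]⟩
    have hco : Odd (Nat.card (zpowers (c ^ 2 ^ r))) := by
      rw [Nat.card_zpowers]
      refine hm.of_dvd_nat (orderOf_dvd_of_pow_eq_one ?_)
      rw [← pow_mul, ← hrm, pow_orderOf_eq_one]
    have h1 := CfsgLib.ZStar.le_oddCore hcn hco (mem_zpowers _)
    obtain ⟨g, hg⟩ := hπs ((c ^ 2 ^ r : C) : G ⧸ O)
    have hgO : g ∈ O := hle (show π g ∈ (Cfsg.oddCore C).map C.subtype from ⟨_, h1, hg.symm⟩)
    have h3 : c ^ 2 ^ r = 1 := Subtype.ext (hg.symm.trans ((QuotientGroup.eq_one_iff g).2 hgO))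
    exact Nat.dvd_antisymm (orderOf_dvd_of_pow_eq_one h3) ⟨m, hrm⟩
  have hψH : ∀ x ∈ H, ψ x ∈ K := by
    rintro _ ⟨k, hk, rfl⟩
    rw [hψπ]
    have h1 := mem_map_of_mem ρ hk
    rwa [MonoidHom.map_closure] at h1
  have hlift : ∀ k : K, ∃ x ∈ H, ψ x = k := fun k => by
    have h1 : (k : (MulAction.toPermHom G Ω).range) ∈ (Subgroup.closure D).map ρ := by
      rw [MonoidHom.map_closure]; exact k.2
    obtain ⟨g, hg, he⟩ := h1
    exact ⟨π g, mem_map_of_mem π hg, he⟩
  set E := ⁅H, H⁆ with hE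
  haveI hEn : E.Normal := inferInstance
  have hEH : E ≤ H := Subgroup.commutator_le_self H
  have hperfK : ⁅K, K⁆ = K := by
    have h1 : commutator K = ⊤ := by
      rcases (inferInstance : (commutator K).Normal).eq_bot_or_eq_top with e | e
      · exfalso
        refine hr fun x y hx hy hxy => ?_
        have hnc : ∀ g g' : K, g * g' = g' * g := fun g g' => commutatorElement_eq_one_iff_mul_comm.1
          (Subgroup.mem_bot.1 (e ▸ Subgroup.commutator_mem_commutator (mem_top g) (mem_top g')))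
        haveI : IsMulCommutative K := ⟨⟨hnc⟩⟩
        have hprime : (Nat.card K).Prime := by open scoped IsMulCommutative in exact IsSimpleGroup.prime_card
        obtain ⟨s, r, hs, hr', hsr, hs2, hr2, -⟩ := h2
        have hK2 : Nat.card K = 2 := ((Nat.prime_dvd_prime_iff_eq Nat.prime_two hprime).1
          (hx ▸ orderOf_dvd_natCard x)).symm
        exfalso
        have h3 : ({1, s, r} : Set K).ncard = 3 := by
          rw [Set.ncard_eq_three]; exact ⟨1, s, r, hs.symm, hr'.symm, hsr, rfl⟩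
        have h4 := Set.ncard_le_ncard (Set.subset_univ ({1, s, r} : Set K))
        rw [h3, Set.ncard_univ, hK2] at h4
        omega
      · exact e
    have h5 := congrArg (Subgroup.map K.subtype) h1
    rwa [← MonoidHom.range_eq_map, Subgroup.range_subtype, map_subtype_commutator] at h5
  have hEK : ∀ k : K, ∃ x ∈ E, ψ x = k := fun k => by
    have hle : K ≤ E.map ψ := by
      conv_lhs => rw [← hperfK]
      rw [hE, Subgroup.map_commutator]
      refine Subgroup.commutator_mono ?_ ?_ <;>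
        exact fun x hx => (hlift ⟨x, hx⟩).elim fun y hy => ⟨y, hy.1, hy.2⟩
    obtain ⟨x, hx, he⟩ := hle k.2
    exact ⟨x, hx, he⟩
  -- the inverted elements
  obtain ⟨Cy, hCy, -, -⟩ := exists_cyclic hS h2
  obtain ⟨k, hkK, hk1⟩ : ∃ k ∈ Cfsg.invertedBy (stabilizer K a ⊓ stabilizer K (t • a)) t, k ≠ 1 := by
    obtain ⟨s, s', hs, hs', hne, -⟩ := exists_J_pair hS h2
    obtain ⟨k, ⟨hk, hks⟩, -⟩ := exists_unique_K hS hs hs'
    exact ⟨k, hk, fun e => hne (by rw [← hks, e]; group)⟩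
  have hka : k • a = a := (mem_D.1 hkK.1).1
  -- the two-elements of `Q` lie in the derived group
  have hQE : ∀ q ∈ Q, (∃ m : ℕ, q ^ 2 ^ m = 1) → π q ∈ E := by
    intro q hq hq2
    let U0 : Subgroup K := U ⊓ (Q.map ρ).comap K.subtype
    have hqK := htwo q hq hq2
    have hqU : (⟨ρ q, hqK⟩ : K) ∈ U0 := ⟨hU2 (h.le q hq) (hq2.imp fun m hm => Subtype.ext (by
      rw [Subgroup.coe_pow, ← map_pow, hm, map_one]; rfl)), mem_map_of_mem ρ hq⟩
    have hU0c : ∀ w ∈ U0, w⁻¹ * k * w * k⁻¹ ∈ U0 := fun w hw => by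
      rw [show w⁻¹ * k * w * k⁻¹ = w⁻¹ * (k * w * k⁻¹) by group]
      refine mul_mem (inv_mem hw) ⟨hS.conj_mem k hka _ hw.1, ?_⟩
      show ((k * w * k⁻¹ : K) : (MulAction.toPermHom G Ω).range) ∈ Q.map ρ
      simpa using hi.normal (k : (MulAction.toPermHom G Ω).range) hka _ hw.2
    let σ : U0 → U0 := fun w => ⟨(w : K)⁻¹ * k * w * k⁻¹, hU0c w w.2⟩
    have hσ : Function.Injective σ := fun w w' e => by
      have h1 : (w : K)⁻¹ * k * w * k⁻¹ = (w' : K)⁻¹ * k * w' * k⁻¹ := congrArg Subtype.val e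
      have h3 : k * ((w : K) * (w' : K)⁻¹) = ((w : K) * (w' : K)⁻¹) * k := by
        calc k * ((w : K) * (w' : K)⁻¹) = (w : K) * ((w : K)⁻¹ * k * w * k⁻¹) * k * (w' : K)⁻¹ := by group
          _ = (w : K) * ((w' : K)⁻¹ * k * w' * k⁻¹) * k * (w' : K)⁻¹ := by rw [h1]
          _ = _ := by group
      have hm : (w : K) * (w' : K)⁻¹ ∈ U ⊓ Subgroup.centralizer {k} :=
        Subgroup.mem_inf.2 ⟨U.mul_mem (Subgroup.mem_inf.1 w.2).1 (U.inv_mem (Subgroup.mem_inf.1 w'.2).1),
          mem_centralizer_singleton_iff.2 h3.symm⟩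
      rw [fixed_point_free hS hkK hk1, mem_bot] at hm
      exact Subtype.ext (mul_inv_eq_one.1 hm)
    obtain ⟨⟨w, hw⟩, hwe⟩ := Finite.surjective_of_injective hσ ⟨_, hqU⟩
    obtain ⟨qw, hqw, hqwe⟩ := hw.2
    obtain ⟨x, hx, hxe⟩ := hEK k
    obtain ⟨g, rfl⟩ := hπs x
    have hga : g • a = a := by
      show (ρ g) • a = a
      rw [← hψπ, hxe]; exact hka
    have hq' : qw⁻¹ * g * qw * g⁻¹ ∈ Q := by
      rw [show qw⁻¹ * g * qw * g⁻¹ = qw⁻¹ * (g * qw * g⁻¹) by group]
      exact mul_mem (inv_mem hqw) (h.normal g hga _ hqw)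
    have he : ρ (qw⁻¹ * g * qw * g⁻¹) = ρ q := by
      rw [map_mul, map_mul, map_mul, map_inv, map_inv, ← hψπ g, hxe,
        show ρ qw = ((w : K) : (MulAction.toPermHom G Ω).range) from hqwe]
      exact congrArg (fun z : U0 => ((z : K) : (MulAction.toPermHom G Ω).range)) hwe
    rw [← hπeq _ hq' q hq he, map_mul, map_mul, map_mul, map_inv, map_inv]
    refine mul_mem ?_ (inv_mem hx)
    simpa using hEn.conj_mem _ hx (π qw)⁻¹
  -- so the whole cover is perfect
  have hHE : H ≤ E := by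
    rw [hH, MonoidHom.map_closure, closure_le]
    rintro _ ⟨d, hd, rfl⟩
    obtain ⟨x₀, hx₀⟩ := h.crit.fix_exists d hd
    obtain ⟨g, hg⟩ := h.crit.trans a x₀
    have hd' : g⁻¹ * d * g ∈ Q := h.mem _ (h.crit.conjBack hd g) (by
      rw [mul_smul, mul_smul, hg, hx₀, ← hg, inv_smul_smul])
    have h1 := hEn.conj_mem _ (hQE _ hd' ⟨1, by
      rw [pow_one, pow_two]; exact h.crit.sq (h.crit.conjBack hd g)⟩) (π g)
    simpa [mul_assoc] using h1
  have hperf : commutator H = ⊤ := by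
    refine Subgroup.map_injective H.subtype_injective ?_
    rw [map_subtype_commutator, ← MonoidHom.range_eq_map, Subgroup.range_subtype]
    exact le_antisymm hEH hHE
  set f : H →* K := (ψ.comp H.subtype).codRestrict K (fun x => hψH x x.2) with hfdef
  have hfs : Function.Surjective f := fun k => by
    obtain ⟨x, hx, he⟩ := hlift k
    exact ⟨⟨x, hx⟩, Subtype.ext he⟩
  have hfker : ∀ x : H, x ∈ f.ker ↔ (x : G ⧸ O) ∈ C := fun x =>
    ⟨fun e => ⟨x.2, congrArg Subtype.val (MonoidHom.mem_ker.1 e)⟩, fun e => MonoidHom.mem_ker.2 (Subtype.ext e.2)⟩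
  have hfc : f.ker ≤ center H := fun z hz => mem_center_iff.2 fun x =>
    Subtype.ext (hcent _ ((hfker z).1 hz).2 _ x.2).symm
  have hfp : IsPGroup 2 f.ker := fun z => by
    obtain ⟨m, hm⟩ := hC2 ⟨_, (hfker _).1 z.2⟩
    exact ⟨m, Subtype.ext (Subtype.ext (congrArg (fun c : C => (c : G ⧸ O)) hm))⟩
  -- the preimage of the kernel of the setup
  set P := U.comap f with hP
  have hPp : IsPGroup 2 P := hUp.comap_of_ker_isPGroup f hfp
  have hPidx : Odd P.index := by
    obtain ⟨S, hS'⟩ := hPp.exists_le_sylow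
    have hSP : (S : Subgroup H) ≤ P := by
      intro x hx
      have hp : IsPGroup 2 ((S : Subgroup H).map f) := S.isPGroup'.map f
      obtain ⟨e, hee⟩ : ∃ e, e ∈ Cfsg.involutionsIn (stabilizer K a : Set K) := exists_involution hS
      obtain ⟨e₀, he₀⟩ := hfs e
      have heS : e ∈ (S : Subgroup H).map f :=
        ⟨e₀, hS' (show e₀ ∈ P by rw [hP, mem_comap, he₀]; exact CfsgLib.Lie.RankOne.J_mem_Q hS hee), he₀⟩
      haveI : Nontrivial ((S : Subgroup H).map f) :=
        ⟨⟨⟨e, heS⟩, 1, fun e1 => hee.2.1 (congrArg Subtype.val e1)⟩⟩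
      haveI := hp.center_nontrivial
      obtain ⟨k₀, hk₀0, hk₀⟩ := (hp.to_subgroup (center ((S : Subgroup H).map f))).nontrivial_iff_card.1 ‹_›
      obtain ⟨z, hz⟩ := exists_prime_orderOf_dvd_card' (G := center ((S : Subgroup H).map f)) 2
        (hk₀ ▸ dvd_pow_self 2 (by omega))
      have hz' : orderOf ((z : ((S : Subgroup H).map f)) : K) = 2 := by
        rw [Subgroup.orderOf_coe, Subgroup.orderOf_coe]; exact hz
      obtain ⟨c, hc⟩ := CfsgLib.Lie.RankOne.exists_fix hS (CfsgLib.Signalizer.involution_sq hz')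
      have hcomm : ∀ y ∈ (S : Subgroup H).map f, y * ((z : ((S : Subgroup H).map f)) : K) =
          ((z : ((S : Subgroup H).map f)) : K) * y := fun y hy =>
        congrArg Subtype.val (mem_center_iff.1 z.2 ⟨y, hy⟩)
      have hzD := hcK.mem_of_noMulti hfK hn hz' hc
      have hca : c = a := by
        have h1 := hcK.fix_of_commute' hzD (g := e) (hcomm e heS) hc
        exact (CfsgLib.Lie.RankOne.fix_unique hS hee.2.1 hee.2.2 h1 hee.1)
      subst hca
      rw [hP, mem_comap]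
      refine hU2 (hcK.fix_of_commute' hzD (hcomm _ (mem_map_of_mem f hx)) hc) ?_
      obtain ⟨m, hm⟩ := hp ⟨f x, mem_map_of_mem f hx⟩
      exact ⟨m, congrArg Subtype.val hm⟩
    rw [← le_antisymm hSP hS']
    exact Nat.not_even_iff_odd.1 fun he => S.not_dvd_index he.two_dvd
  -- lifts from `Q`
  set Q0 : Subgroup H := (Q.map π).comap H.subtype ⊓ P with hQ0
  have hQ0n : ∀ x : H, f x • a = a → ∀ y ∈ Q0, x * y * x⁻¹ ∈ Q0 := by
    intro x hxa y hy
    obtain ⟨q, hq, hqy⟩ := hy.1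
    obtain ⟨g, hg⟩ := hπs (x : G ⧸ O)
    have hga : g • a = a := by
      show (ρ g) • a = a
      rw [← hψπ, hg]
      exact hxa
    refine ⟨⟨g * q * g⁻¹, h.normal g hga q hq, ?_⟩, ?_⟩
    · rw [map_mul, map_mul, map_inv, hg, hqy]
      simp
    · show f (x * y * x⁻¹) ∈ U
      rw [map_mul, map_mul, map_inv]
      exact hS.conj_mem _ hxa _ hy.2
  have hQ0C : ∀ y ∈ Q0, y ∈ f.ker → y = 1 := fun y hy hyC => by
    obtain ⟨q, hq, hqy⟩ := hy.1
    refine Subtype.ext ?_
    rw [show (y : G ⧸ O) = π q from hqy.symm, OneMemClass.coe_one, ← map_one π]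
    refine hπeq q hq 1 (one_mem _) ?_
    rw [map_one, ← hψπ, hqy]
    exact ((hfker y).1 hyC).2
  have hJ : ∀ z ∈ involutionGroup hS h2, ∃ y ∈ Q0, f y = z := by
    intro z hz
    have hzQ : (z : (MulAction.toPermHom G Ω).range) ∈ Q.map ρ := by
      rcases hz with e | e
      · rw [e]; exact one_mem _
      · exact hi.mem _ (hcK.mem_of_noMulti hfK hn (orderOf_eq_prime (by rw [pow_two, e.2.2]) e.2.1) e.1) e.1
    obtain ⟨q, hq, hqe⟩ := hzQ
    have hz2 : z * z = 1 := by
      rcases hz with e | e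
      · rw [e, one_mul]
      · exact e.2.2
    obtain ⟨N', hN', m, hm⟩ := exists_two_rep ρ (n := 1) (x := q) (by
      rw [pow_one, hqe, pow_two, ← Subgroup.coe_mul, hz2, Subgroup.coe_one])
    have hzU : z ∈ U := by
      rcases hz with e | e
      · rw [e]; exact one_mem _
      · exact CfsgLib.Lie.RankOne.J_mem_Q hS e
    refine ⟨⟨π (q ^ N'), hEH (hQE _ (pow_mem hq N') ⟨m, hm⟩)⟩, ⟨mem_map_of_mem π (pow_mem hq N'), ?_⟩,
      Subtype.ext (hN'.trans hqe)⟩
    show f _ ∈ U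
    rwa [show f ⟨π (q ^ N'), hEH (hQE _ (pow_mem hq N') ⟨m, hm⟩)⟩ = z from Subtype.ext (hN'.trans hqe)]
  -- the cover is trivial
  have hbot : f.ker = ⊥ := ker_eq_bot hS h2 hUp hperf hfs hfc hfp hPidx Q0 (fun y hy => hy.2) hQ0C hQ0n hJ
  obtain ⟨k₀, hk₀, q, hq, hvq⟩ := h.qClosure_le v hv
  have hv2' : v * v = 1 := by rw [← pow_two, ← hv2, pow_orderOf_eq_one]
  -- `v` acts as an element of `<D>`
  haveI hKn : K.Normal := by
    rw [hK, ← MonoidHom.map_closure]
    exact hDn.map ρ hρs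
  have hvK : ρ v ∈ K := by
    let f₁ := (QuotientGroup.mk' K).comp ρ
    have he : f₁ v = f₁ q := by
      rw [hvq, map_mul, show f₁ k₀ = 1 from (QuotientGroup.eq_one_iff _).2 (by
        rw [hK, ← MonoidHom.map_closure]; exact mem_map_of_mem ρ hk₀), one_mul]
    obtain ⟨N', hN', m, hm⟩ := exists_two_rep f₁ (n := 1) (x := q) (by
      rw [pow_one, ← he, pow_two, ← map_mul, hv2', map_one])
    exact (QuotientGroup.eq_one_iff _).1 (he.trans (hN'.symm.trans
      ((QuotientGroup.eq_one_iff _).2 (htwo _ (pow_mem hq N') ⟨m, hm⟩))))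
  have hvN : ρ v = 1 := by
    by_contra hne
    exact hn ⟨ρ v, hvK⟩ ⟨orderOf_eq_prime (Subtype.ext (by
      rw [Subgroup.coe_pow, pow_two, ← map_mul, hv2', map_one]; rfl)) (fun e => hne (congrArg Subtype.val e)),
      a, b, hb.symm, hva, hvb⟩
  -- and `v` lies in the cover
  have hvH : π v ∈ H := by
    let f₂ := (QuotientGroup.mk' H).comp π
    have he : f₂ v = f₂ q := by
      rw [hvq, map_mul, show f₂ k₀ = 1 from (QuotientGroup.eq_one_iff _).2 (mem_map_of_mem π hk₀), one_mul]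
    obtain ⟨N', hN', m, hm⟩ := exists_two_rep f₂ (n := 1) (x := q) (by
      rw [pow_one, ← he, pow_two, ← map_mul, hv2', map_one])
    exact (QuotientGroup.eq_one_iff _).1 (he.trans (hN'.symm.trans
      ((QuotientGroup.eq_one_iff _).2 (hEH (hQE _ (pow_mem hq N') ⟨m, hm⟩)))))
  have h1 : (⟨π v, hvH⟩ : H) ∈ f.ker := (hfker _).2 ⟨hvH, hvN⟩
  rw [hbot, Subgroup.mem_bot] at h1
  have hvO : v ∈ O := (QuotientGroup.eq_one_iff v).1 (congrArg Subtype.val h1)
  have h3 : orderOf v ∣ Nat.card O := Subgroup.orderOf_dvd_natCard _ hvO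
  rw [hv2] at h3
  exact Nat.not_even_iff_odd.2 hOodd (even_iff_two_dvd.2 h3)

end Tight

end CfsgLib.AschCrit
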