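import Cfsg.Agent.Lib.Invol.AschCrit.Dep.TightBender
import Cfsg.Agent.Lib.Invol.CentralMeet.Models
import Cfsg.Agent.Lib.Lie.RankOneClass.Ident
import Cfsg.Agent.Lib.Lie.Suzuki.Group

/-!
Owner: helper18. S1911 from Aschbacher's criterion: tools for the central kernel over a Bender group.

* `mem_commutator_of_perfect`: a central 2-element of a perfect group lies in the derived group of a subgroup of
  odd index containing it.
* `comm_of_sq_const`: a group with constant squares outside a central subgroup is abelian.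
* `sqImage`: the squares of a central subgroup.
* `setup_cases`: the kernel of a simple setup is the involution group, is large with the cyclic group transitive,
  or the group has only odd covers.
-/

set_option autoImplicit false
set_option linter.style.haveILetI false
set_option linter.unusedSectionVars false

namespace CfsgLib.AschCrit

open Subgroup MulAction CfsgLib.Lie.RankOne CfsgLib.Lie.RankOneClass
open CfsgLib.OddTransitive.RankOne (involutionGroup)

universe u v

/-- By transfer, a central 2-element of a perfect group is in the derived group of a subgroup of odd index. -/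
theorem mem_commutator_of_perfect {E : Type*} [Group E] [Finite E] (hE : commutator E = ⊤) (T : Subgroup E)
    (hT : Odd T.index) {z : E} (hz : z ∈ T) (hc : ∀ g : E, g * z = z * g) {n : ℕ} (hzn : z ^ 2 ^ n = 1) :
    (⟨z, hz⟩ : T) ∈ commutator T := by
  set V : E →* Abelianization T := MonoidHom.transfer (Abelianization.of (G := T)) with hV
  have hV1 : V z = 1 := by
    have : z ∈ V.ker := Abelianization.commutator_subset_ker V (hE ▸ Subgroup.mem_top z)
    exact this
  have hkey : ∀ (k : ℕ) (g : E), g⁻¹ * z ^ k * g ∈ T → g⁻¹ * z ^ k * g = z ^ k := fun k g _ => by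
    rw [mul_assoc, ← ((show Commute g z from hc g).pow_right k).eq, inv_mul_cancel_left]
  rw [hV, MonoidHom.transfer_eq_pow _ z hkey] at hV1
  have h1 : (⟨z, hz⟩ : T) ^ T.index ∈ commutator T := by
    rw [← Abelianization.ker_of, MonoidHom.mem_ker]
    exact (congrArg Abelianization.of (Subtype.ext rfl :)).trans hV1
  have ho : orderOf (⟨z, hz⟩ : T) ∣ 2 ^ n := by
    rw [Subgroup.orderOf_mk]; exact orderOf_dvd_of_pow_eq_one hzn
  have hco : (T.index).Coprime (orderOf (⟨z, hz⟩ : T)) :=
    ((Nat.coprime_two_right.2 hT).pow_right n).coprime_dvd_right ho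
  obtain ⟨m, hm⟩ := exists_pow_eq_self_of_coprime hco
  rw [← hm]
  exact pow_mem h1 m

/-- A group whose elements outside a central subgroup have one square of order at most two is abelian. -/
theorem comm_of_sq_const {R : Type*} [Group R] (B : Subgroup R) (s : R) (hs2 : s * s = 1)
    (hsc : ∀ x : R, x * s = s * x) (hBc : ∀ b ∈ B, ∀ x : R, x * b = b * x) (hgood : ∀ x : R, x ∉ B → x * x = s)
    (hbig : ∀ x y : R, ∃ z, z ∉ B ∧ x * z ∉ B ∧ y * z ∉ B ∧ x * y * z ∉ B) : ∀ x y : R, x * y = y * x := by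
  have hpair : ∀ x y : R, x ∉ B → y ∉ B → x * y ∉ B → y * x = x * y * s := by
    intro x y hx hy hxy
    have h1 : x * x = s := hgood x hx
    have h2 : y * y = s := hgood y hy
    have h3 : x * y * (x * y) = s := hgood _ hxy
    calc y * x = x⁻¹ * (x * y * (x * y)) * y⁻¹ := by group
      _ = x⁻¹ * s * y⁻¹ := by rw [h3]
      _ = x * y⁻¹ := by rw [← h1]; group
      _ = x * y * (y * y)⁻¹ := by group
      _ = x * y * s := by rw [h2, inv_eq_of_mul_eq_one_right hs2]
  intro x y
  by_cases hx : x ∈ B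
  · exact (hBc x hx y).symm
  by_cases hy : y ∈ B
  · exact hBc y hy x
  by_cases hxy : x * y ∈ B
  · have h1 := hBc _ hxy x
    exact mul_left_cancel (h1.trans (mul_assoc x y x))
  obtain ⟨z, hz, hxz, hyz, hxyz⟩ := hbig x y
  have h1 := hpair x y hx hy hxy
  have h2 := hpair x z hx hz hxz
  have h3 := hpair x (y * z) hx hyz (by rwa [← mul_assoc])
  have h4 : y * z * x = x * (y * z) := by
    calc y * z * x = y * (z * x) := mul_assoc _ _ _
      _ = y * x * (z * s) := by rw [h2]; group
      _ = x * y * (s * z) * s := by rw [h1]; group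
      _ = x * y * (z * s) * s := by rw [hsc z]
      _ = x * (y * z) * (s * s) := by group
      _ = x * (y * z) := by rw [hs2, mul_one]
  rw [h3] at h4
  rw [h1, mul_eq_left.1 h4, mul_one]

/-- The squares of a commuting subgroup. -/
def sqImage {X : Type*} [Group X] (C : Subgroup X) (hC : ∀ a ∈ C, ∀ b ∈ C, a * b = b * a) : Subgroup X where
  carrier := {g | ∃ c ∈ C, c * c = g}
  one_mem' := ⟨1, one_mem _, mul_one 1⟩
  mul_mem' := fun {x y} ⟨a, ha, hx⟩ ⟨b, hb, hy⟩ => ⟨a * b, mul_mem ha hb, by
    rw [← hx, ← hy, mul_assoc, ← mul_assoc b, ← hC a ha b hb, mul_assoc, ← mul_assoc a]⟩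
  inv_mem' := fun {x} ⟨a, ha, hx⟩ => ⟨a⁻¹, inv_mem ha, by rw [← hx, mul_inv_rev]⟩

/-- A commuting 2-subgroup in which everything is a square is trivial. -/
theorem eq_bot_of_sq {X : Type*} [Group X] [Finite X] {C : Subgroup X} (hp : IsPGroup 2 C)
    (hC : ∀ a ∈ C, ∀ b ∈ C, a * b = b * a) (h : C ≤ sqImage C hC) : C = ⊥ := by
  by_contra hne
  haveI := Fact.mk Nat.prime_two
  haveI : Nontrivial C := (Subgroup.nontrivial_iff_ne_bot C).2 hne
  obtain ⟨k, hk0, hk⟩ := hp.nontrivial_iff_card.1 ‹_›
  obtain ⟨w, hw⟩ := exists_prime_orderOf_dvd_card' (G := C) 2 (hk ▸ dvd_pow_self 2 (by omega))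
  let f : C → C := fun c => c * c
  have hf : Function.Surjective f := fun c => by
    obtain ⟨a, ha, e⟩ := h c.2
    exact ⟨⟨a, ha⟩, Subtype.ext e⟩
  have hi := Finite.injective_iff_surjective.2 hf
  have : w = 1 := hi (show w * w = 1 * 1 by rw [← pow_two, ← hw, pow_orderOf_eq_one, mul_one])
  rw [this, orderOf_one] at hw
  omega

variable {K : Type u} [Group K] [Finite K] [IsSimpleGroup K] {Ω : Type v} [MulAction K Ω] [FaithfulSMul K Ω]
  {a : Ω} {t : K} {U : Subgroup K}

/-- The three cases for a simple setup, as far as central extensions need them. -/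
theorem setup_cases (hS : Cfsg.IsRankOneSetup K Ω a t U)
    (h2 : ∃ x y : K, x ≠ 1 ∧ y ≠ 1 ∧ x ≠ y ∧ x * x = 1 ∧ y * y = 1 ∧ x * y = y * x) (hU : IsPGroup 2 U) :
    (∀ x ∈ U, x ∈ involutionGroup hS h2) ∨ CfsgLib.CentralMeet.OddCover K ∨
      (8 ≤ qq K a ∧ Nat.card U = qq K a ^ 2 ∧ ∀ x ∈ U, x * x ∈ involutionGroup hS h2) := by
  classical
  have hN : NoExt t U := fun L hL _ ht =>
    hL.eq_bot_or_eq_top.resolve_left fun h => hS.ne_one (Subgroup.mem_bot.1 (h ▸ ht))
  have hle : involutionGroup hS h2 ≤ U := by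
    rintro z (rfl | hz)
    · exact one_mem _
    · exact CfsgLib.Lie.RankOne.J_mem_Q hS hz
  rcases trichotomy hS h2 hN (centShape_of_setup hS h2) with hq | ⟨hna, hq, hSz⟩ | ⟨-, hq, ⟨w, hw, hw1⟩, hC⟩
  · refine Or.inl fun x hx => ?_
    rwa [Subgroup.eq_of_le_of_card_ge hle (by rw [card_involutionGroup hS h2, hq])]
  · refine Or.inr (Or.inr ⟨?_, hq, ?_⟩)
    · obtain ⟨n, hn, hqn⟩ := exists_pow_two hS h2
      by_contra hlt
      have hn2 : n = 2 := by
        by_contra hne
        have : 2 ^ 3 ≤ 2 ^ n := Nat.pow_le_pow_right two_pos (by omega)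
        omega
      have hq4 : qq K a = 4 := by rw [hqn, hn2]; norm_num
      have hV : Vg a t = ⊥ := by
        rcases CfsgLib.RankOneInter.TIAuto.shape_cases hS h2 with h | ⟨h, -⟩ | ⟨h, -, -⟩
        · rw [hq, hq4] at h; norm_num at h
        · exact h
        · rw [hq, hq4] at h; norm_num at h
      have hJ : Nat.card (Cfsg.involutionsIn (stabilizer K a : Set K)) = 3 := by
        have := hq4; rw [qq] at this; omega
      have hK := CfsgLib.Lie.RankOne.card_group hS
      rw [CfsgLib.Lie.RankOneClass.card_D hS, hV, hJ, Subgroup.card_bot, hq, hq4] at hK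
      obtain ⟨F, iF, iFt, m, hm, hF, ⟨e⟩⟩ := hSz
      haveI : CharP F 2 := CfsgLib.Lie.Suzuki.charTwo_of_card hF
      rw [Nat.card_congr e.toEquiv, ← Nat.card_congr (CfsgLib.Lie.Suzuki.equivLie hm hF).toEquiv,
        CfsgLib.Lie.Suzuki.nat_card hF hm] at hK
      have h8 : 8 ≤ Fintype.card F := by
        rw [hF, show (8 : ℕ) = 2 ^ 3 by norm_num]; exact Nat.pow_le_pow_right two_pos (by omega)
      have h64 : 64 ≤ Fintype.card F ^ 2 := by nlinarith
      have : 64 * 65 * 1 ≤ Fintype.card F ^ 2 * (Fintype.card F ^ 2 + 1) * (Fintype.card F - 1) :=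
        Nat.mul_le_mul (Nat.mul_le_mul h64 (by omega)) (by omega)
      omega
    · obtain ⟨P⟩ := exists_qdec hS h2
      have hmem : ∀ {y : K}, y ∈ U → y ∈ P.S := fun {y} hy => by
        obtain ⟨i, hi⟩ := hU ⟨y, hy⟩
        exact P.mem_S hy (i := i) (congrArg Subtype.val hi)
      rcases P.S_cases hS h2 with h | ⟨h, -, -⟩
      · exact absurd (fun x hx y hy => h x (hmem hx) y (hmem hy)) hna
      · exact fun x hx => h x (hmem hx)
  · obtain ⟨F, iF, iFt, n, hn, hF, ⟨e⟩⟩ := CfsgLib.Lie.RankOneClass.Ident.exists_psu3 hS h2 hq hw hw1 hC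
    have htop : Subgroup.closure ((U : Set K) ∪ {t}) = ⊤ :=
      hN _ (closure_normal_odd hS h2).1 (fun x hx => subset_closure (Or.inl hx)) (subset_closure (Or.inr rfl))
    exact Or.inr (Or.inl (CfsgLib.CentralMeet.oddCover_psu hn hF
      ((Subgroup.topEquiv.symm.trans (MulEquiv.subgroupCongr htop.symm)).trans e)))

end CfsgLib.AschCrit
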