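import Cfsg.Agent.Lib.Invol.AschCrit.Dep.TightCoverTools

/-!
Owner: helper18. S1911 from Aschbacher's criterion: perfect central covers of a Bender group with a lifted
normal part of the kernel of the setup.

* `exists_conj_coset`: the inverted elements are transitive on the nontrivial cosets of the involution group.
* `ker_eq_bot`: such a cover is trivial.
-/

set_option autoImplicit false
set_option linter.style.haveILetI false
set_option linter.unusedSectionVars false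

namespace CfsgLib.AschCrit

open Subgroup MulAction CfsgLib.Lie.RankOne CfsgLib.Lie.RankOneClass
open CfsgLib.OddTransitive.RankOne (involutionGroup exists_cyclic)
open scoped commutatorElement

universe u v

variable {K : Type u} [Group K] [Finite K] {Ω : Type v} [MulAction K Ω] [FaithfulSMul K Ω]
  {a : Ω} {t : K} {U : Subgroup K}

/-- With `|U| = q²` the inverted elements are transitive on the nontrivial cosets of the involution group. -/
theorem exists_conj_coset (hS : Cfsg.IsRankOneSetup K Ω a t U)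
    (h2 : ∃ x y : K, x ≠ 1 ∧ y ≠ 1 ∧ x ≠ y ∧ x * x = 1 ∧ y * y = 1 ∧ x * y = y * x)
    (hcard : Nat.card U = qq K a ^ 2) {w x : K} (hw : w ∈ U) (hwZ : w ∉ involutionGroup hS h2)
    (hx : x ∈ U) (hxZ : x ∉ involutionGroup hS h2) :
    ∃ k ∈ Cfsg.invertedBy (stabilizer K a ⊓ stabilizer K (t • a)) t,
      (k * w * k⁻¹)⁻¹ * x ∈ involutionGroup hS h2 := by
  classical
  set Z := involutionGroup hS h2 with hZ
  obtain ⟨Cy, hCy, -, -⟩ := exists_cyclic hS h2
  have hCymem : ∀ z, z ∈ Cy ↔ z ∈ Cfsg.invertedBy (stabilizer K a ⊓ stabilizer K (t • a)) t :=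
    fun z => by rw [← hCy]; rfl
  have hZU : Z ≤ U := by
    rintro z (rfl | hz)
    · exact one_mem _
    · exact CfsgLib.Lie.RankOne.J_mem_Q hS hz
  have hZconj : ∀ g : K, g • a = a → ∀ z ∈ Z, g * z * g⁻¹ ∈ Z := by
    rintro g hg z (rfl | hz)
    · exact Or.inl (by group)
    · exact Or.inr (conj_mem_J hS hz hg)
  have hZc : ∀ y ∈ Z, ∀ y' ∈ Z, y * y' = y' * y := by
    rintro y hy y' (rfl | e)
    · rw [mul_one, one_mul]
    · exact (J_central hS h2 e (hZU hy)).symm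
  haveI : (Z.subgroupOf U).Normal := ⟨fun z hz g => by
    rw [Subgroup.mem_subgroupOf] at hz ⊢
    exact hZconj g (hS.le g.2) _ hz⟩
  let T := {r : U ⧸ Z.subgroupOf U // r ≠ 1}
  let g : Cfsg.invertedBy (stabilizer K a ⊓ stabilizer K (t • a)) t → T := fun k =>
    ⟨QuotientGroup.mk' (Z.subgroupOf U) ⟨k.1 * w * k.1⁻¹, hS.conj_mem k.1 (mem_D.1 k.2.1).1 w hw⟩, fun e => hwZ (by
      have h1 : k.1 * w * k.1⁻¹ ∈ Z := Subgroup.mem_subgroupOf.1 ((QuotientGroup.eq_one_iff _).1 e)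
      have := hZconj k.1⁻¹ (inv_smul_eq_iff.2 (mem_D.1 k.2.1).1.symm) _ h1
      rwa [inv_inv, show k.1⁻¹ * (k.1 * w * k.1⁻¹) * k.1 = w by group] at this)⟩
  have hginj : Function.Injective g := by
    intro k₁ k₂ e
    by_contra hne
    have hk₁a := (mem_D.1 k₁.2.1).1
    have h1 : (k₁.1 * w * k₁.1⁻¹)⁻¹ * (k₂.1 * w * k₂.1⁻¹) ∈ Z :=
      Subgroup.mem_subgroupOf.1 (QuotientGroup.eq.1 (congrArg Subtype.val e))
    set c := k₁.1⁻¹ * k₂.1 with hc
    have hcK := (hCymem c).1 (mul_mem (inv_mem ((hCymem _).2 k₁.2)) ((hCymem _).2 k₂.2))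
    have hc1 : c ≠ 1 := fun e1 => hne (Subtype.ext (inv_mul_eq_one.1 e1))
    have hca : c • a = a := (mem_D.1 hcK.1).1
    have hcZ : w⁻¹ * (c * w * c⁻¹) ∈ Z := by
      have h3 := hZconj k₁.1⁻¹ (inv_smul_eq_iff.2 hk₁a.symm) _ h1
      rwa [show k₁.1⁻¹ * ((k₁.1 * w * k₁.1⁻¹)⁻¹ * (k₂.1 * w * k₂.1⁻¹)) * k₁.1⁻¹⁻¹ = w⁻¹ * (c * w * c⁻¹) by
        rw [hc]; group] at h3
    -- `c` fixes the coset of `w`, so it centralises a point of it
    let σ : Z → Z := fun z => ⟨(z : K)⁻¹ * (c * z * c⁻¹), mul_mem (inv_mem z.2) (hZconj c hca _ z.2)⟩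
    have hσi : Function.Injective σ := fun z z' e' => by
      have h4 : (z : K)⁻¹ * (c * z * c⁻¹) = (z' : K)⁻¹ * (c * z' * c⁻¹) := congrArg Subtype.val e'
      have h5 : c * ((z : K) * (z' : K)⁻¹) = ((z : K) * (z' : K)⁻¹) * c := by
        calc c * ((z : K) * (z' : K)⁻¹) = (z : K) * ((z : K)⁻¹ * (c * z * c⁻¹)) * c * (z' : K)⁻¹ := by group
          _ = (z : K) * ((z' : K)⁻¹ * (c * z' * c⁻¹)) * c * (z' : K)⁻¹ := by rw [h4]
          _ = _ := by group
      have hm' : (z : K) * (z' : K)⁻¹ ∈ U ⊓ Subgroup.centralizer {c} :=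
        ⟨hZU (mul_mem z.2 (inv_mem z'.2)), mem_centralizer_singleton_iff.2 h5.symm⟩
      rw [fixed_point_free hS hcK hc1, mem_bot] at hm'
      exact Subtype.ext (mul_inv_eq_one.1 hm')
    obtain ⟨z, hz⟩ := Finite.surjective_of_injective hσi ⟨_, inv_mem hcZ⟩
    have hz' : (z : K)⁻¹ * (c * z * c⁻¹) = (w⁻¹ * (c * w * c⁻¹))⁻¹ := congrArg Subtype.val hz
    have h6 : c * z * c⁻¹ = (z : K) * (w⁻¹ * (c * w * c⁻¹))⁻¹ := by rw [← hz']; group
    have hwz : c * (w * z) = (w * z) * c := by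
      calc c * (w * z) = w * (w⁻¹ * (c * w * c⁻¹)) * (c * z * c⁻¹) * c := by group
        _ = w * ((w⁻¹ * (c * w * c⁻¹)) * z) * (w⁻¹ * (c * w * c⁻¹))⁻¹ * c := by rw [h6]; group
        _ = w * ((z : K) * (w⁻¹ * (c * w * c⁻¹))) * (w⁻¹ * (c * w * c⁻¹))⁻¹ * c := by rw [hZc _ hcZ _ z.2]
        _ = (w * z) * c := by group
    have hm' : w * z ∈ U ⊓ Subgroup.centralizer {c} :=
      ⟨mul_mem hw (hZU z.2), mem_centralizer_singleton_iff.2 hwz.symm⟩
    rw [fixed_point_free hS hcK hc1, mem_bot] at hm'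
    exact hwZ (by rw [eq_inv_of_mul_eq_one_left hm']; exact inv_mem z.2)
  have hT : Nat.card T + 1 = qq K a := by
    have h1 := Subgroup.card_eq_card_quotient_mul_card_subgroup (Z.subgroupOf U)
    rw [Nat.card_congr (Subgroup.subgroupOfEquivOfLe hZU).toEquiv, card_involutionGroup hS h2, hcard,
      pow_two] at h1
    have hq := four_le_qq hS h2
    have h3 : Nat.card (U ⧸ Z.subgroupOf U) = qq K a :=
      (Nat.eq_of_mul_eq_mul_right (by omega) h1).symm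
    rw [← h3]
    haveI := Fintype.ofFinite (U ⧸ Z.subgroupOf U)
    rw [Nat.card_eq_fintype_card, Nat.card_eq_fintype_card, Fintype.card_subtype_compl, Fintype.card_subtype_eq]
    have := Fintype.card_pos (α := U ⧸ Z.subgroupOf U)
    omega
  have hbij : Function.Bijective g := (Nat.bijective_iff_injective_and_card g).2 ⟨hginj, by
    rw [CfsgLib.Lie.RankOne.card_K hS]
    have := hT
    rw [qq] at this
    omega⟩
  obtain ⟨k, hk⟩ := hbij.2 ⟨QuotientGroup.mk' (Z.subgroupOf U) ⟨x, hx⟩, fun e => hxZ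
    (Subgroup.mem_subgroupOf.1 ((QuotientGroup.eq_one_iff _).1 e))⟩
  exact ⟨k.1, k.2, Subgroup.mem_subgroupOf.1 (QuotientGroup.eq.1 (congrArg Subtype.val hk))⟩

variable {H : Type u} [Group H] [Finite H] {f : H →* K}

/-- A commuting product has the commutator of its parts. -/
theorem commutator_central_mul {x y c d : H} (hc : ∀ z, z * c = c * z) (hd : ∀ z, z * d = d * z) :
    ⁅x * c, y * d⁆ = ⁅x, y⁆ := by
  rw [commutatorElement_def, commutatorElement_def]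
  calc x * c * (y * d) * (x * c)⁻¹ * (y * d)⁻¹ = x * ((c * (y * d)) * c⁻¹) * x⁻¹ * (y * d)⁻¹ := by group
    _ = x * (y * d) * x⁻¹ * (y * d)⁻¹ := by rw [← hc (y * d), mul_inv_cancel_right]
    _ = x * y * (d * x⁻¹) * d⁻¹ * y⁻¹ := by group
    _ = x * y * (x⁻¹ * d) * d⁻¹ * y⁻¹ := by rw [hd x⁻¹]
    _ = x * y * x⁻¹ * y⁻¹ := by group

/-- A perfect central cover whose kernel misses a lifted normal part of the preimage of `U` is trivial. -/
theorem ker_eq_bot [IsSimpleGroup K] (hS : Cfsg.IsRankOneSetup K Ω a t U)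
    (h2 : ∃ x y : K, x ≠ 1 ∧ y ≠ 1 ∧ x ≠ y ∧ x * x = 1 ∧ y * y = 1 ∧ x * y = y * x) (hU : IsPGroup 2 U)
    (hperf : commutator H = ⊤) (hfs : Function.Surjective f) (hfc : f.ker ≤ center H) (hfp : IsPGroup 2 f.ker)
    (hPidx : Odd (U.comap f).index) (Q0 : Subgroup H) (hQ0U : ∀ y ∈ Q0, f y ∈ U)
    (hQ0C : ∀ y ∈ Q0, y ∈ f.ker → y = 1) (hQ0n : ∀ x : H, f x • a = a → ∀ y ∈ Q0, x * y * x⁻¹ ∈ Q0)
    (hJ : ∀ z ∈ involutionGroup hS h2, ∃ y ∈ Q0, f y = z) : f.ker = ⊥ := by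
  classical
  have hC0c : ∀ x ∈ f.ker, ∀ y ∈ f.ker, x * y = y * x := fun x hx y _ => (mem_center_iff.1 (hfc hx) y).symm
  set P := U.comap f with hP
  have hPa : ∀ x ∈ P, f x • a = a := fun x hx => hS.le hx
  have hlift : ∀ z : H, (∃ y ∈ Q0, f y = f z) → ∃ y ∈ Q0, ∃ c ∈ f.ker, z = y * c := by
    rintro z ⟨y, hy, e⟩
    exact ⟨y, hy, y⁻¹ * z, by rw [MonoidHom.mem_ker, map_mul, map_inv, e, inv_mul_cancel],
      (mul_inv_cancel_left y z).symm⟩
  -- it suffices to bound the derived group of `P`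
  suffices hsuf : ∀ x ∈ P, ∀ y ∈ P, ⁅x, y⁆ ∈ Q0 ⊔ sqImage f.ker hC0c by
    refine eq_bot_of_sq hfp hC0c fun c hc => ?_
    have hcP : c ∈ P := by rw [hP, mem_comap, MonoidHom.mem_ker.1 hc]; exact one_mem _
    obtain ⟨m, hm⟩ := hfp ⟨c, hc⟩
    have hct := mem_commutator_of_perfect hperf P hPidx hcP (fun g => mem_center_iff.1 (hfc hc) g)
      (n := m) (congrArg Subtype.val hm)
    have hle : (commutator P).map P.subtype ≤ Q0 ⊔ sqImage f.ker hC0c := by
      rw [map_subtype_commutator, Subgroup.commutator_le]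
      exact hsuf
    have h1 := hle (mem_map_of_mem P.subtype hct)
    haveI : (sqImage f.ker hC0c).Normal := ⟨fun z hz g => by
      obtain ⟨d, hd, rfl⟩ := hz
      refine ⟨d, hd, ?_⟩
      rw [show g * (d * d) = d * d * g from mem_center_iff.1 (mul_mem (hfc hd) (hfc hd)) g, mul_inv_cancel_right]⟩
    rw [← SetLike.mem_coe, Subgroup.mul_normal] at h1
    obtain ⟨y, hy, z, hz, hyz⟩ := h1
    have hyz' : y * z = c := hyz
    have hzc : z ∈ f.ker := by
      obtain ⟨d, hd, rfl⟩ := hz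
      exact mul_mem hd hd
    have hy1 : y = 1 := hQ0C y hy (by
      rw [show y = c * z⁻¹ by rw [← hyz']; group]
      exact mul_mem hc (inv_mem hzc))
    rw [← hyz', hy1, one_mul]
    exact hz
  have hcov_case : (∀ u ∈ U, ∃ y ∈ Q0, f y = u) → ∀ x ∈ P, ∀ y ∈ P, ⁅x, y⁆ ∈ Q0 ⊔ sqImage f.ker hC0c := by
    intro hall x hx y hy
    obtain ⟨x₁, hx₁, c₁, hc₁, rfl⟩ := hlift x (hall _ hx)
    obtain ⟨y₁, hy₁, c₂, hc₂, rfl⟩ := hlift y (hall _ hy)
    rw [commutator_central_mul (fun z => mem_center_iff.1 (hfc hc₁) z) (fun z => mem_center_iff.1 (hfc hc₂) z)]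
    exact mem_sup_left (mul_mem (mul_mem (mul_mem hx₁ hy₁) (inv_mem hx₁)) (inv_mem hy₁))
  by_cases hall : ∀ u ∈ U, ∃ y ∈ Q0, f y = u
  · exact hcov_case hall
  simp only [not_forall] at hall
  obtain ⟨w, hwU, hwQ⟩ := hall
  set Z := involutionGroup hS h2 with hZ
  have hwZ : w ∉ Z := fun e => hwQ (hJ w e)
  rcases setup_cases hS h2 hU with hUZ | hodd | ⟨h8, hcard, hsq⟩
  · exact absurd (hUZ w hwU) hwZ
  · -- odd covers
    haveI : Group.IsPerfect H := ⟨hperf⟩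
    have hodd' := hodd H f inferInstance hfs hfc
    obtain ⟨m, hm⟩ := hfp.exists_card_eq
    have hbot : f.ker = ⊥ := by
      refine Subgroup.eq_bot_of_card_eq _ ?_
      rw [hm] at hodd' ⊢
      rcases m with _ | m
      · rfl
      · exact absurd hodd' (Nat.not_odd_iff_even.2 (Nat.even_pow.2 ⟨even_two, by omega⟩))
    intro x hx y hy
    have hinj : Function.Injective f := (MonoidHom.ker_eq_bot_iff f).1 hbot
    refine mem_sup_left ?_
    obtain ⟨z, hz, hze⟩ := hJ (f ⁅x, y⁆) (by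
      rw [map_commutatorElement, commutatorElement_def]
      simpa using comm_mem_involutionGroup hS h2 hU (inv_mem (show f x ∈ U from hx))
        (inv_mem (show f y ∈ U from hy)))
    rwa [← hinj hze]
  -- the Suzuki case
  have hZU : Z ≤ U := by
    rintro z (rfl | hz)
    · exact one_mem _
    · exact CfsgLib.Lie.RankOne.J_mem_Q hS hz
  have hQ0Z : ∀ y ∈ Q0, f y ∈ Z := by
    intro y hy
    by_contra hyZ
    obtain ⟨k, hk, hkx⟩ := exists_conj_coset hS h2 hcard (hQ0U y hy) hyZ hwU hwZ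
    obtain ⟨k', hk'⟩ := hfs k
    obtain ⟨z, hz, hze⟩ := hJ _ hkx
    refine hwQ ⟨(k' * y * k'⁻¹) * z, mul_mem (hQ0n k' (by rw [hk']; exact (mem_D.1 hk.1).1) y hy) hz, ?_⟩
    rw [map_mul, map_mul, map_mul, map_inv, hk', hze]
    group
  set S2 := sqImage f.ker hC0c with hS2
  have hS2c : ∀ z ∈ S2, ∀ x : H, x * z = z * x := by
    rintro z ⟨d, hd, rfl⟩ x
    exact mem_center_iff.1 (mul_mem (hfc hd) (hfc hd)) x
  set B := Q0 ⊔ S2 with hB
  have hBZ : B ≤ Z.comap f := sup_le hQ0Z (by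
    rintro z ⟨d, hd, rfl⟩
    rw [mem_comap, map_mul, MonoidHom.mem_ker.1 hd, one_mul]; exact one_mem _)
  have hBconj : ∀ x : H, f x • a = a → ∀ y ∈ B, x * y * x⁻¹ ∈ B := by
    intro x hx y hy
    have hle : B ≤ B.comap (MulAut.conj x).toMonoidHom := by
      refine sup_le (fun z hz => mem_sup_left (hQ0n x hx z hz)) fun z hz => mem_sup_right ?_
      show x * z * x⁻¹ ∈ S2
      rw [hS2c z hz x, mul_inv_cancel_right]; exact hz
    exact hle hy
  set BP := B.subgroupOf P with hBP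
  haveI hBPn : BP.Normal := ⟨fun y hy g => by
    rw [hBP, Subgroup.mem_subgroupOf] at hy ⊢
    exact hBconj g (hPa g g.2) _ hy⟩
  set qR := QuotientGroup.mk' BP with hqR
  have hcent : ∀ c : P, (c : H) ∈ f.ker → ∀ x : P, x * c = c * x := fun c hc' x =>
    Subtype.ext (mem_center_iff.1 (hfc hc') x)
  have hlow : ∀ z : P, f z ∈ Z → ∃ c : P, (c : H) ∈ f.ker ∧ qR z = qR c := by
    intro z hz
    obtain ⟨y, hy, c, hc', e⟩ := hlift z (hJ _ hz)
    have hcP' : c ∈ P := by rw [hP, mem_comap, MonoidHom.mem_ker.1 hc']; exact one_mem _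
    refine ⟨⟨c, hcP'⟩, hc', (QuotientGroup.eq.2 ?_).symm⟩
    rw [hBP, Subgroup.mem_subgroupOf]
    show c⁻¹ * (z : H) ∈ B
    rw [e, ← mul_assoc, ← mem_center_iff.1 (hfc (inv_mem hc')) y, mul_assoc, inv_mul_cancel, mul_one]
    exact mem_sup_left hy
  have hsqC : ∀ c : P, (c : H) ∈ f.ker → qR (c * c) = 1 := fun c hc' =>
    (QuotientGroup.eq_one_iff _).2 (by
      rw [hBP, Subgroup.mem_subgroupOf]; exact mem_sup_right ⟨(c : H), hc', rfl⟩)
  obtain ⟨ŵ, hŵ⟩ := hfs w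
  have hŵP : ŵ ∈ P := by rw [hP, mem_comap, hŵ]; exact hwU
  obtain ⟨c₁, hc₁, hwsq⟩ := hlow (⟨ŵ, hŵP⟩ * ⟨ŵ, hŵP⟩) (by
    show f (ŵ * ŵ) ∈ Z
    rw [map_mul, hŵ]; exact hsq w hwU)
  have hgood : ∀ x : P, f x ∉ Z → qR x * qR x = qR c₁ := by
    intro x hx
    obtain ⟨k, hk, hkx⟩ := exists_conj_coset hS h2 hcard hwU hwZ x.2 hx
    obtain ⟨k', hk'⟩ := hfs k
    have hka : k • a = a := (mem_D.1 hk.1).1
    have hyP : k' * ŵ * k'⁻¹ ∈ P := by
      rw [hP, mem_comap, map_mul, map_mul, map_inv, hk', hŵ]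
      exact hS.conj_mem k hka w hwU
    set y : P := ⟨k' * ŵ * k'⁻¹, hyP⟩ with hy
    obtain ⟨c₂, hc₂, hxy⟩ := hlow (y⁻¹ * x) (by
      show f ((k' * ŵ * k'⁻¹)⁻¹ * x) ∈ Z
      rw [map_mul, map_inv, map_mul, map_mul, map_inv, hk', hŵ]
      exact hkx)
    rw [map_mul, map_inv, inv_mul_eq_iff_eq_mul] at hxy
    have hy2 : qR y * qR y = qR c₁ := by
      rw [← map_mul]
      refine QuotientGroup.eq.2 ?_
      rw [hBP, Subgroup.mem_subgroupOf]
      have h7 := QuotientGroup.eq.1 hwsq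
      rw [hBP, Subgroup.mem_subgroupOf] at h7
      have h8 := hBconj k' (by rw [hk']; exact hka) _ h7
      convert h8 using 1
      show ((k' * ŵ * k'⁻¹) * (k' * ŵ * k'⁻¹))⁻¹ * (c₁ : H) = k' * ((ŵ * ŵ)⁻¹ * (c₁ : H)) * k'⁻¹
      calc ((k' * ŵ * k'⁻¹) * (k' * ŵ * k'⁻¹))⁻¹ * (c₁ : H) = k' * (ŵ * ŵ)⁻¹ * (k'⁻¹ * (c₁ : H)) := by group
        _ = k' * (ŵ * ŵ)⁻¹ * ((c₁ : H) * k'⁻¹) := by rw [mem_center_iff.1 (hfc hc₁) k'⁻¹]
        _ = _ := by group
    rw [hxy]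
    calc qR y * qR c₂ * (qR y * qR c₂) = qR y * (qR c₂ * qR y) * qR c₂ := by group
      _ = qR y * (qR y * qR c₂) * qR c₂ := by rw [← map_mul qR c₂ y, ← hcent c₂ hc₂ y, map_mul]
      _ = qR y * qR y * qR (c₂ * c₂) := by rw [map_mul qR c₂ c₂]; group
      _ = qR c₁ := by rw [hy2, hsqC c₂ hc₂, mul_one]
  set Bb : Subgroup (P ⧸ BP) := (Z.comap (f.comp P.subtype)).map qR with hBb
  have hkey : ∀ u : P, qR u ∈ Bb → f u ∈ Z := by
    rintro u ⟨u', hu', he⟩
    have h1 := QuotientGroup.eq.1 he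
    rw [hBP, Subgroup.mem_subgroupOf] at h1
    have h3 : f ((u' : H)⁻¹ * (u : H)) ∈ Z := hBZ h1
    rw [map_mul, map_inv] at h3
    have h4 := mul_mem (show f u' ∈ Z from hu') h3
    rwa [mul_inv_cancel_left] at h4
  have hcomm : ∀ r r' : P ⧸ BP, r * r' = r' * r := by
    refine comm_of_sq_const Bb (qR c₁) (by rw [← map_mul]; exact hsqC c₁ hc₁) ?_ ?_ ?_ ?_
    · intro r
      obtain ⟨x, rfl⟩ := QuotientGroup.mk'_surjective BP r
      rw [← map_mul, ← map_mul, hcent c₁ hc₁ x]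
    · rintro _ ⟨z, hz, rfl⟩ r'
      obtain ⟨c, hc, e⟩ := hlow z hz
      obtain ⟨x, rfl⟩ := QuotientGroup.mk'_surjective BP r'
      rw [e, ← map_mul, ← map_mul, hcent c hc x]
    · intro r hr'
      obtain ⟨x, rfl⟩ := QuotientGroup.mk'_surjective BP r
      exact hgood x fun hx => hr' (mem_map_of_mem qR hx)
    · intro r r'
      obtain ⟨x, rfl⟩ := QuotientGroup.mk'_surjective BP r
      obtain ⟨y, rfl⟩ := QuotientGroup.mk'_surjective BP r'
      -- a coset avoiding four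
      let d : Fin 4 → U := ![1, ⟨(f x)⁻¹, inv_mem x.2⟩, ⟨(f y)⁻¹, inv_mem y.2⟩,
        ⟨(f x * f y)⁻¹, inv_mem (mul_mem x.2 y.2)⟩]
      let F : Z × Fin 4 → U := fun p => d p.2 * ⟨(p.1 : K), hZU p.1.2⟩
      obtain ⟨v, hv⟩ : ∃ v : U, ∀ p, F p ≠ v := by
        by_contra hcon
        push Not at hcon
        have h1 := Nat.card_le_card_of_surjective F hcon
        rw [Nat.card_prod, Nat.card_fin, card_involutionGroup hS h2, hcard] at h1
        nlinarith
      obtain ⟨z, hz⟩ := hfs v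
      have hzP : z ∈ P := by rw [hP, mem_comap, hz]; exact v.2
      have hav : ∀ (i : Fin 4) (e : K), e = ((d i : U) : K)⁻¹ * v → e ∉ Z := fun i e he hmem =>
        hv (⟨e, hmem⟩, i) (Subtype.ext (by
          show ((d i : U) : K) * e = v
          rw [he, mul_inv_cancel_left]))
      refine ⟨qR ⟨z, hzP⟩, fun hm => ?_, fun hm => ?_, fun hm => ?_, fun hm => ?_⟩
      · exact hav 0 (f z) (by simp [d, hz]) (hkey _ hm)
      · rw [← map_mul] at hm
        exact hav 1 (f (x * z)) (by simp [d, hz]) (hkey _ hm)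
      · rw [← map_mul] at hm
        exact hav 2 (f (y * z)) (by simp [d, hz]) (hkey _ hm)
      · rw [← map_mul, ← map_mul] at hm
        exact hav 3 (f (x * y * z)) (by simp [d, hz]) (hkey _ hm)
  intro x hx y hy
  have h1 := hcomm (qR ⟨x, hx⟩) (qR ⟨y, hy⟩)
  have h3 : qR ⁅(⟨x, hx⟩ : P), ⟨y, hy⟩⁆ = 1 := by
    rw [map_commutatorElement, commutatorElement_eq_one_iff_mul_comm]
    exact h1
  have h4 := (QuotientGroup.eq_one_iff _).1 h3
  rw [hBP, Subgroup.mem_subgroupOf] at h4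
  exact h4

end CfsgLib.AschCrit
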