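import Cfsg.Agent.Lib.Invol.AschCrit.Dep.TightCover
import Cfsg.Prelude.Def_Involutions

/-!
Owner: helper18. S1911 from Aschbacher's criterion: tightly embedded subgroups whose conjugates meet
the normaliser in odd order.

* `tight_of_odd`: the setting on the cosets of the normaliser.
* `normal_or_stronglyEmbedded_qClosure`: the statement of S1911.
-/

set_option autoImplicit false
set_option linter.style.haveILetI false

namespace CfsgLib.AschCrit

open Subgroup MulAction

universe u

variable {G : Type u} [Group G] [Finite G] {Q : Subgroup G}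

/-- The cosets of the normaliser carry the setting. -/
theorem tight_of_odd
    (hodd : ∀ g : G, g ∉ Subgroup.normalizer (Q : Set G) →
      Odd (Nat.card ↥(Q.map (MulAut.conj g).toMonoidHom ⊓ Subgroup.normalizer (Q : Set G))))
    {z : G} (hzQ : z ∈ Q) (hz : orderOf z = 2)
    (hc : Crit (G ⧸ Subgroup.normalizer (Q : Set G)) {d : G | ∃ g : G, g * z * g⁻¹ = d}) :
    Tight {d : G | ∃ g : G, g * z * g⁻¹ = d} ((1 : G) : G ⧸ Subgroup.normalizer (Q : Set G)) Q := by
  have hN : ∀ x : G, x • ((1 : G) : G ⧸ Subgroup.normalizer (Q : Set G)) = ((1 : G) : G ⧸ Subgroup.normalizer (Q : Set G))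
      ↔ x ∈ Subgroup.normalizer (Q : Set G) := fun x => by
    rw [MulAction.Quotient.smul_coe, smul_eq_mul, QuotientGroup.eq, mul_one, mul_one, inv_mem_iff]
  refine ⟨hc, ?_, fun x hx => (hN x).2 (Subgroup.le_normalizer hx),
    fun g hg x hx => (Subgroup.mem_normalizer_iff.1 ((hN g).1 hg) x).1 hx, ?_⟩
  · rintro _ ⟨g, rfl⟩ hd
    exact (Subgroup.mem_normalizer_iff.1 (mem_normalizer_of_conj Q hodd hzQ hz ((hN _).1 hd)) z).1 hzQ
  · rintro x hx ⟨n, hn⟩ b hb hxb
    by_contra h1
    obtain ⟨m, -, hm⟩ := (Nat.dvd_prime_pow Nat.prime_two).1 (orderOf_dvd_of_pow_eq_one hn)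
    obtain ⟨m, rfl⟩ : ∃ m', m = m' + 1 := ⟨m - 1, by
      rcases m with _ | m
      · exact absurd (orderOf_eq_one_iff.1 hm) h1
      · rfl⟩
    have hy : orderOf (x ^ 2 ^ m) = 2 := by
      rw [orderOf_pow' _ (pow_ne_zero _ two_ne_zero), hm, Nat.gcd_eq_right (pow_dvd_pow 2 m.le_succ),
        pow_succ, Nat.mul_div_cancel_left _ (by positivity)]
    have hyb : (x ^ 2 ^ m) • b = b := by
      have h2 : x ∈ MulAction.stabilizer G b := hxb
      exact pow_mem h2 _
    obtain ⟨c, rfl⟩ := QuotientGroup.mk_surjective b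
    rw [MulAction.Quotient.smul_coe, smul_eq_mul, QuotientGroup.eq] at hyb
    have h3 : c⁻¹ * (x ^ 2 ^ m) * c⁻¹⁻¹ ∈ Subgroup.normalizer (Q : Set G) := by
      have := inv_mem hyb
      simpa [mul_assoc] using this
    have h4 := mem_normalizer_of_conj Q hodd (pow_mem hx _) hy h3
    exact hb (QuotientGroup.eq.2 (by simpa using h4))

/-- **S1911 from the criterion**: `Q` is normal, or its normaliser is strongly embedded in `<Q^G>`. -/
theorem normal_or_stronglyEmbedded_qClosure (hmain : Main.{u}) (hev : Even (Nat.card Q))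
    (hodd : ∀ g : G, g ∉ Subgroup.normalizer (Q : Set G) →
      Odd (Nat.card ↥(Q.map (MulAut.conj g).toMonoidHom ⊓ Subgroup.normalizer (Q : Set G)))) :
    Q.Normal ∨
      Cfsg.IsStronglyEmbedded ((Subgroup.normalizer (Q : Set G)).subgroupOf (Subgroup.normalClosure (Q : Set G))) := by
  classical
  haveI := Fact.mk Nat.prime_two
  by_cases hne : Subgroup.normalizer (Q : Set G) = ⊤
  · exact Or.inl (Subgroup.normalizer_eq_top_iff.1 hne)
  obtain ⟨z, hzQ, hz, hc⟩ := crit_of_tight Q hev hodd hne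
  have ht := tight_of_odd hodd hzQ hz hc
  set N := Subgroup.normalizer (Q : Set G) with hNdef
  set R := Subgroup.normalClosure (Q : Set G) with hR
  have hzR : z ∈ R := Subgroup.subset_normalClosure hzQ
  refine Or.inr ⟨fun e => ?_, ?_, fun g hg => ?_⟩
  · obtain ⟨g, -, hgN⟩ := SetLike.exists_of_lt (lt_top_iff_ne_top.2 hne)
    exact hgN (mem_normalizer_of_conj Q hodd hzQ hz
      (Subgroup.subgroupOf_eq_top.1 e ((Subgroup.normalClosure_normal).conj_mem z hzR g)))
  · rw [even_iff_two_dvd]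
    have h1 : (⟨z, hzR⟩ : R) ∈ N.subgroupOf R := Subgroup.le_normalizer hzQ
    exact (hz.symm.trans (Subgroup.orderOf_mk z hzR).symm).dvd.trans (Subgroup.orderOf_dvd_natCard _ h1)
  · rw [← Nat.not_even_iff_odd]
    intro he
    obtain ⟨v, hv⟩ := exists_prime_orderOf_dvd_card' 2 (even_iff_two_dvd.1 he)
    rw [← Subgroup.orderOf_coe, ← Subgroup.orderOf_coe] at hv
    obtain ⟨hvN, v', hv'N, hvv⟩ := v.2
    refine ht.noInvolution hmain (v := ((v : R) : G)) (v : R).2 hv (b := ((g : G) : G ⧸ N)) ?_ ?_ ?_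
    · intro e
      refine hg (Subgroup.mem_subgroupOf.2 ?_)
      simpa using QuotientGroup.eq.1 e
    · rw [MulAction.Quotient.smul_coe, smul_eq_mul, QuotientGroup.eq, mul_one, mul_one]
      exact inv_mem hvN
    · rw [MulAction.Quotient.smul_coe, smul_eq_mul, QuotientGroup.eq, ← hvv]
      simpa [mul_assoc] using inv_mem (Subgroup.mem_subgroupOf.1 hv'N)

end CfsgLib.AschCrit
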