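import Cfsg.Agent.Lib.Invol.AschCrit.Dep.Tight
import Cfsg.Agent.Lib.Components.FStar
import Cfsg.Agent.Lib.OddLocal.Final.OddOrder

/-!
Owner: helper8. A tightly embedded subgroup with odd intersections over a simple generalized Fitting
subgroup (S3121), from Aschbacher's criterion.
-/

set_option autoImplicit false
set_option linter.style.haveILetI false

namespace CfsgLib.AschCrit

universe u

variable {G : Type u} [Group G] [Finite G]

/-- S3121 from the criterion. -/
theorem normal_or_stronglyEmbedded_gFitting (hmain : Main.{u})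
    (hF : IsSimpleGroup ↥(Cfsg.generalizedFittingSubgroup G))
    (hF' : ¬ IsMulCommutative ↥(Cfsg.generalizedFittingSubgroup G))
    (Q : Subgroup G) (hQ : Cfsg.IsTightlyEmbedded Q)
    (hodd : ∀ g : G, g ∉ Subgroup.normalizer (Q : Set G) →
      Odd (Nat.card ↥(Q.map (MulAut.conj g).toMonoidHom ⊓ Subgroup.normalizer (Q : Set G)))) :
    Q.Normal ∨ ∃ M : Subgroup ↥(Cfsg.generalizedFittingSubgroup G), Cfsg.IsStronglyEmbedded M := by
  classical
  haveI := Fact.mk Nat.prime_two
  set F := Cfsg.generalizedFittingSubgroup G with hFdef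
  haveI hFn : F.Normal := CfsgLib.Components.gFitting_normal
  set N := Subgroup.normalizer (Q : Set G) with hN
  by_cases hne : N = ⊤
  · exact Or.inl (Subgroup.normalizer_eq_top_iff.mp hne)
  refine Or.inr ?_
  have hcomm : ¬ ∀ a b : F, a * b = b * a := fun h => hF' ⟨⟨h⟩⟩
  have hev : Even (Nat.card F) := by
    rw [← Nat.not_odd_iff_even]
    intro ho
    exact hcomm (IsSimpleGroup.comm_iff_isSolvable.mpr (CfsgLib.OddLocal.FTFinal.odd_order_solvable ho))
  -- the centraliser of `F` is trivial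
  have hcent : ∀ x : G, (∀ y ∈ F, Commute x y) → x = 1 := by
    intro x hx
    have hxc : x ∈ Subgroup.centralizer (F : Set G) :=
      Subgroup.mem_centralizer_iff.mpr fun y hy => (hx y hy).symm
    have hxF : x ∈ F := CfsgLib.Components.centralizer_gFitting_le hxc
    by_contra hx1
    have hc : (⟨x, hxF⟩ : F) ∈ Subgroup.center F := Subgroup.mem_center_iff.mpr fun y =>
      Subtype.ext (hx y y.2).symm.eq
    rcases IsSimpleGroup.eq_bot_or_eq_top_of_normal (Subgroup.center F) inferInstance with h | h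
    · rw [h, Subgroup.mem_bot] at hc
      exact hx1 (congrArg Subtype.val hc)
    · exact hcomm fun a b => (Subgroup.mem_center_iff.mp (h ▸ Subgroup.mem_top b) a)
  -- a normal subgroup of `G` is trivial or contains `F`
  have hnormal : ∀ A : Subgroup G, A.Normal → A = ⊥ ∨ F ≤ A := by
    intro A hA
    haveI := hA
    rcases IsSimpleGroup.eq_bot_or_eq_top_of_normal (A.subgroupOf F) inferInstance with h | h
    · left
      refine (Subgroup.eq_bot_iff_forall A).mpr fun a ha => hcent a fun y hy => ?_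
      have hdis : Disjoint A F := Subgroup.subgroupOf_eq_bot.mp h
      exact Subgroup.commute_of_normal_of_disjoint A F hA hFn hdis a y ha hy
    · exact Or.inr (Subgroup.subgroupOf_eq_top.mp h)
  obtain ⟨g₀, -, hg₀⟩ := SetLike.exists_of_lt (lt_top_iff_ne_top.mpr hne)
  -- `F` is not in `N`
  have hFN : ¬ F ≤ N := by
    intro hle
    haveI : (Q.subgroupOf F).Normal := by
      refine ⟨fun q hq g => ?_⟩
      rw [Subgroup.mem_subgroupOf] at hq ⊢
      exact (Subgroup.mem_normalizer_iff.mp (hle g.2) _).mp hq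
    rcases IsSimpleGroup.eq_bot_or_eq_top_of_normal (Q.subgroupOf F) inferInstance with h | h
    · obtain ⟨q, hq⟩ := exists_prime_orderOf_dvd_card' 2 (even_iff_two_dvd.mp hQ.1)
      have hdis : Disjoint Q F := Subgroup.subgroupOf_eq_bot.mp h
      have hq1 : (q : G) = 1 := by
        refine hcent q fun y hy => ?_
        have h1 : (q : G) * y * (q : G)⁻¹ * y⁻¹ ∈ Q := by
          have := Q.mul_mem q.2 ((Subgroup.mem_normalizer_iff.mp (hle hy) (q : G)⁻¹).mp (Q.inv_mem q.2))
          simpa [mul_assoc] using this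
        have h2 : (q : G) * y * (q : G)⁻¹ * y⁻¹ ∈ F := F.mul_mem (hFn.conj_mem y hy _) (F.inv_mem hy)
        have h3 := Subgroup.disjoint_def.mp hdis h1 h2
        exact mul_inv_eq_iff_eq_mul.mp (mul_inv_eq_one.mp h3)
      rw [← Subgroup.orderOf_coe, hq1, orderOf_one] at hq
      omega
    · have hFQ : F ≤ Q := Subgroup.subgroupOf_eq_top.mp h
      refine Nat.not_even_iff_odd.mpr (hodd g₀ hg₀) (even_iff_two_dvd.mpr
        ((even_iff_two_dvd.mp hev).trans (Subgroup.card_dvd_of_le (le_inf (fun y hy => ?_) hle))))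
      exact ⟨g₀⁻¹ * y * g₀, hFQ (by simpa using hFn.conj_mem y hy g₀⁻¹),
        by show g₀ * (g₀⁻¹ * y * g₀) * g₀⁻¹ = y; group⟩
  obtain ⟨z, hzQ, hz, hc⟩ := crit_of_tight Q hQ.1 hodd hne
  set D : Set G := {d | ∃ g : G, g * z * g⁻¹ = d} with hD
  -- the action is faithful
  have hf : Faithful G (G ⧸ N) := by
    intro g hg
    have hcore : g ∈ N.normalCore := fun x => by
      have h4 := inv_mem (QuotientGroup.eq.mp (hg ((x⁻¹ : G) : G ⧸ N)))
      simpa [mul_assoc] using h4
    rcases hnormal N.normalCore inferInstance with h | h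
    · rwa [h, Subgroup.mem_bot] at hcore
    · exact absurd (h.trans (Subgroup.normalCore_le N)) hFN
  have hFK : F ≤ Subgroup.closure D := by
    refine (hnormal _ ⟨fun x hx g => ?_⟩).resolve_left fun e => ?_
    · have hle : Subgroup.closure D ≤ (Subgroup.closure D).comap (MulAut.conj g).toMonoidHom :=
        (Subgroup.closure_le _).mpr fun d hd => Subgroup.subset_closure (hc.conj d hd g)
      exact hle hx
    · have : z ∈ Subgroup.closure D := Subgroup.subset_closure ⟨1, by simp⟩
      rw [e, Subgroup.mem_bot] at this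
      rw [this, orderOf_one] at hz
      omega
  have hker : ∀ t ∈ Subgroup.closure D, orderOf t = 2 → ∃ x : G ⧸ N, t • x ≠ x := by
    intro t _ ht
    by_contra hall
    push Not at hall
    rw [hf t hall, orderOf_one] at ht
    omega
  have hstab : MulAction.stabilizer G ((1 : G) : G ⧸ N) = N := MulAction.stabilizer_quotient N
  refine ⟨N.subgroupOf F, fun e => hFN (Subgroup.subgroupOf_eq_top.mp e), ?_, fun g hg => ?_⟩
  · obtain ⟨t, ht⟩ := exists_prime_orderOf_dvd_card' 2 (even_iff_two_dvd.mp hev)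
    haveI := hc.finite_points
    have hp : IsPGroup 2 (Subgroup.zpowers (t : G)) := IsPGroup.of_card (n := 1) (by
      rw [Nat.card_zpowers, Subgroup.orderOf_coe, ht, pow_one])
    obtain ⟨x, hx⟩ := hp.nonempty_fixed_point_of_prime_not_dvd_card (G ⧸ N)
      (Nat.two_dvd_ne_zero.mpr (Nat.odd_iff.mp (hc.odd_points ((1 : G) : G ⧸ N)).1))
    obtain ⟨a, rfl⟩ := QuotientGroup.mk_surjective x
    have hta : (t : G) • (a : G ⧸ N) = (a : G ⧸ N) := hx ⟨t, Subgroup.mem_zpowers _⟩
    rw [MulAction.Quotient.smul_coe, smul_eq_mul, QuotientGroup.eq] at hta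
    have h1 : a⁻¹ * (t : G) * a ∈ N := by
      have := inv_mem hta
      simpa [mul_assoc] using this
    have h2 : a⁻¹ * (t : G) * a ∈ F := by simpa using hFn.conj_mem _ t.2 a⁻¹
    have h3 : (⟨_, h2⟩ : F) ∈ N.subgroupOf F := h1
    refine even_iff_two_dvd.mpr (dvd_trans ?_ (Subgroup.orderOf_dvd_natCard _ h3))
    rw [Subgroup.orderOf_mk, show a⁻¹ * (t : G) * a = MulAut.conj a⁻¹ (t : G) by simp,
      MulEquiv.orderOf_eq, Subgroup.orderOf_coe, ht]
  · rw [← Nat.not_even_iff_odd]
    intro hev'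
    obtain ⟨⟨w, hw⟩, hw2⟩ := exists_prime_orderOf_dvd_card' 2 (even_iff_two_dvd.1 hev')
    rw [Subgroup.orderOf_mk] at hw2
    obtain ⟨hwN, v, hv, hvw⟩ := hw
    have hvw' : g * v * g⁻¹ = w := hvw
    have hw' : (w : G) • ((1 : G) : G ⧸ N) = ((1 : G) : G ⧸ N) := by
      rw [← MulAction.mem_stabilizer_iff, hstab]; exact hwN
    have hv' : (v : G) • ((1 : G) : G ⧸ N) = ((1 : G) : G ⧸ N) := by
      rw [← MulAction.mem_stabilizer_iff, hstab]; exact hv
    refine hc.noMulti_closure hmain hker (w : G) (hFK w.2) ((Subgroup.orderOf_coe w).trans hw2)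
      ((1 : G) : G ⧸ N) ((g : G) • ((1 : G) : G ⧸ N)) (fun e => hg ?_) hw' ?_
    · show (g : G) ∈ N
      rw [← hstab, MulAction.mem_stabilizer_iff]; exact e.symm
    · rw [← hvw', Subgroup.coe_mul, Subgroup.coe_mul, Subgroup.coe_inv, mul_smul, mul_smul, inv_smul_smul, hv']

end CfsgLib.AschCrit
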